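import Mathlib

/-!
# Commutators in isometry groups from Siegel corners

`V` a finite dimensional space with a bilinear form `B`.
* `Iso B g` : the linear equivalence `g` preserves `B`; `IsComm B g` : `g` is a commutator of two isometries.
* `comm_of_corner` : `V = P ⊕ Q` with `P`, `Q` totally isotropic, `X`, `Z` isometries preserving `P` and `Q`
  such that some polynomial kills `X|P` and is injective on `Q` and conversely; then
  `(1 + n) (X Z X⁻¹ Z⁻¹) (1 + m)` is a commutator for all Siegel unipotents `1 + n`, `1 + m`.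
* `C1 B g` : there are such `P`, `Q` with `(g - 1) P ≤ Q`; then `g = (1 + n) (1 + m)`.
-/

set_option autoImplicit false
open Polynomial

namespace Cfsg.Agent.H144

section Basic

variable {F V : Type*} [Field F] [AddCommGroup V] [Module F V]

/-- `g` preserves the bilinear form `B`. -/
def Iso (B : LinearMap.BilinForm F V) (g : V ≃ₗ[F] V) : Prop := ∀ x y, B (g x) (g y) = B x y

theorem Iso.one (B : LinearMap.BilinForm F V) : Iso B 1 := fun _ _ => rfl

theorem Iso.mul {B : LinearMap.BilinForm F V} {g h : V ≃ₗ[F] V} (hg : Iso B g) (hh : Iso B h) :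
    Iso B (g * h) := fun x y => by
  rw [LinearEquiv.mul_apply, LinearEquiv.mul_apply, hg, hh]

theorem Iso.inv {B : LinearMap.BilinForm F V} {g : V ≃ₗ[F] V} (hg : Iso B g) : Iso B g⁻¹ := by
  intro x y
  have h := hg (g⁻¹ x) (g⁻¹ y)
  have hx : ∀ v, g (g⁻¹ v) = v := fun v => g.apply_symm_apply v
  rw [hx, hx] at h
  exact h.symm

theorem inv_app (g : V ≃ₗ[F] V) (v : V) : g⁻¹ (g v) = v := g.symm_apply_apply v

theorem app_inv (g : V ≃ₗ[F] V) (v : V) : g (g⁻¹ v) = v := g.apply_symm_apply v

theorem Iso.adj {B : LinearMap.BilinForm F V} {g : V ≃ₗ[F] V} (hg : Iso B g) (x y : V) :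
    B (g x) y = B x (g⁻¹ y) := by
  have h := hg x (g⁻¹ y)
  rwa [app_inv] at h

theorem Iso.adj' {B : LinearMap.BilinForm F V} {g : V ≃ₗ[F] V} (hg : Iso B g) (x y : V) :
    B x (g y) = B (g⁻¹ x) y := by
  have h := hg (g⁻¹ x) y
  rwa [app_inv] at h

/-- `g` is a commutator of two isometries of `B`. -/
def IsComm (B : LinearMap.BilinForm F V) (g : V ≃ₗ[F] V) : Prop :=
  ∃ M T : V ≃ₗ[F] V, Iso B M ∧ Iso B T ∧ g = M * T * M⁻¹ * T⁻¹

/-- Two subspaces are orthogonal. -/
def Orth (B : LinearMap.BilinForm F V) (P Q : Submodule F V) : Prop := ∀ x ∈ P, ∀ y ∈ Q, B x y = 0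

/-- There is a decomposition into isotropic `P`, `Q` with `(g - 1) P ≤ Q`. -/
def C1 (B : LinearMap.BilinForm F V) (g : V ≃ₗ[F] V) : Prop :=
  ∃ P Q : Submodule F V, Orth B P P ∧ Orth B Q Q ∧ P ⊔ Q = ⊤ ∧ ∀ v ∈ P, g v - v ∈ Q

/-- Skew-adjoint maps `V → Q` which kill `Q`. -/
def Skew (B : LinearMap.BilinForm F V) (Q : Submodule F V) : Submodule F (Module.End F V) where
  carrier := {z | (∀ v, z v ∈ Q) ∧ (∀ v ∈ Q, z v = 0) ∧ ∀ x y, B (z x) y + B x (z y) = 0}
  zero_mem' := ⟨fun _ => Q.zero_mem, fun _ _ => rfl, fun x y => by simp⟩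
  add_mem' := by
    rintro a b ⟨ha, ha', ha''⟩ ⟨hb, hb', hb''⟩
    refine ⟨fun v => Q.add_mem (ha v) (hb v), fun v hv => ?_, fun x y => ?_⟩
    · rw [LinearMap.add_apply, ha' v hv, hb' v hv, add_zero]
    · have h1 := ha'' x y
      have h2 := hb'' x y
      simp only [LinearMap.add_apply, map_add]
      linear_combination h1 + h2
  smul_mem' := by
    rintro c a ⟨ha, ha', ha''⟩
    refine ⟨fun v => Q.smul_mem c (ha v), fun v hv => ?_, fun x y => ?_⟩
    · rw [LinearMap.smul_apply, ha' v hv, smul_zero]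
    · have h1 := ha'' x y
      simp only [LinearMap.smul_apply, map_smul, smul_eq_mul]
      linear_combination c * h1

/-- The transvection-like map `1 + z` for `z² = 0`. -/
def uni (z : Module.End F V) (hz : ∀ v, z (z v) = 0) : V ≃ₗ[F] V where
  toFun v := v + z v
  map_add' x y := by rw [map_add]; abel
  map_smul' c x := by rw [map_smul, smul_add]; rfl
  invFun v := v - z v
  left_inv v := by simp [hz]
  right_inv v := by simp [hz]

theorem uni_apply (z : Module.End F V) (hz : ∀ v, z (z v) = 0) (v : V) : uni z hz v = v + z v := rfl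

theorem uni_inv_apply (z : Module.End F V) (hz : ∀ v, z (z v) = 0) (v : V) :
    (uni z hz)⁻¹ v = v - z v := rfl

theorem skew_sq {B : LinearMap.BilinForm F V} {Q : Submodule F V} {z : Module.End F V}
    (hz : z ∈ Skew B Q) (v : V) : z (z v) = 0 := hz.2.1 _ (hz.1 v)

theorem skew_iso {B : LinearMap.BilinForm F V} {Q : Submodule F V} (hQ : Orth B Q Q)
    {z : Module.End F V} (hz : z ∈ Skew B Q) : Iso B (uni z (skew_sq hz)) := by
  intro x y
  have h1 := hz.2.2 x y
  have h2 := hQ _ (hz.1 x) _ (hz.1 y)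
  simp only [uni_apply, map_add, LinearMap.add_apply, h2]
  linear_combination h1

end Basic

section Corner

variable {F V : Type*} [Field F] [AddCommGroup V] [Module F V] [FiniteDimensional F V]

theorem inv_mem_of_mem {X : V ≃ₗ[F] V} {Q : Submodule F V} (h : ∀ v ∈ Q, X v ∈ Q) :
    ∀ v ∈ Q, X⁻¹ v ∈ Q := by
  have h1 : Q.map (X : V →ₗ[F] V) ≤ Q := by
    rintro _ ⟨v, hv, rfl⟩
    exact h v hv
  have h2 : Q.map (X : V →ₗ[F] V) = Q := by
    apply Submodule.eq_of_le_of_finrank_eq h1
    exact LinearEquiv.finrank_map_eq X Q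
  intro v hv
  rw [← h2] at hv
  obtain ⟨w, hw, rfl⟩ := hv
  have : X⁻¹ ((X : V →ₗ[F] V) w) = w := inv_app X w
  rw [this]
  exact hw

/-- The Sylvester equation. -/
theorem sylvester {B : LinearMap.BilinForm F V} {P Q : Submodule F V} (hPQ : P ⊔ Q = ⊤)
    {X : V ≃ₗ[F] V} (hX : Iso B X) (hXQ : ∀ v ∈ Q, X v ∈ Q) (f : F[X])
    (hfP : ∀ v ∈ P, aeval (X : Module.End F V) f v = 0)
    (hfQ : ∀ v ∈ Q, aeval (X : Module.End F V) f v = 0 → v = 0)
    {n : Module.End F V} (hn : n ∈ Skew B Q) :
    ∃ z ∈ Skew B Q, ∀ v, z (X v) = X (z v) + n (X v) := by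
  have hXi := inv_mem_of_mem hXQ
  have key : ∀ z ∈ Skew B Q, z - X.conj z ∈ Skew B Q := by
    intro z hz
    refine (Skew B Q).sub_mem hz ⟨fun v => ?_, fun v hv => ?_, fun x y => ?_⟩
    · exact hXQ _ (hz.1 _)
    · have : z (X.symm v) = 0 := hz.2.1 _ (hXi v hv)
      rw [LinearEquiv.conj_apply_apply, this, map_zero]
    · have h1 := hz.2.2 (X.symm x) (X.symm y)
      have h2 := hX (z (X.symm x)) (X.symm y)
      have h3 := hX (X.symm x) (z (X.symm y))
      rw [X.apply_symm_apply] at h2 h3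
      rw [LinearEquiv.conj_apply_apply, LinearEquiv.conj_apply_apply, h2, h3, h1]
  let T : (Skew B Q) →ₗ[F] (Skew B Q) :=
    ((LinearMap.id - (X.conj : Module.End F V →ₗ[F] Module.End F V)) ∘ₗ (Skew B Q).subtype).codRestrict
      (Skew B Q) (fun z => key z.1 z.2)
  have hT : Function.Injective T := by
    rw [← LinearMap.ker_eq_bot, LinearMap.ker_eq_bot']
    rintro ⟨z, hz⟩ h
    have h0 : z - X.conj z = 0 := congrArg Subtype.val h
    have hc : ∀ v, z (X v) = X (z v) := by
      intro v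
      have := LinearMap.congr_fun h0 (X v)
      rw [LinearMap.sub_apply, LinearEquiv.conj_apply_apply, X.symm_apply_apply, LinearMap.zero_apply,
        sub_eq_zero] at this
      exact this
    have hcf : ∀ p : F[X], ∀ v, z (aeval (X : Module.End F V) p v) = aeval (X : Module.End F V) p (z v) := by
      intro p v
      induction p using Polynomial.induction_on' generalizing v with
      | add p q hp hq => simp only [map_add, LinearMap.add_apply, hp, hq]
      | monomial k a =>
        have hk : ∀ k : ℕ, ∀ v, z (((X : Module.End F V) ^ k) v) = ((X : Module.End F V) ^ k) (z v) := by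
          intro k
          induction k with
          | zero => intro v; simp
          | succ k ih =>
            intro v
            rw [pow_succ, Module.End.mul_apply, Module.End.mul_apply, ih]
            congr 1
            exact hc v
        rw [aeval_monomial]
        simp only [Module.algebraMap_end_eq_smul_id, Module.End.mul_apply, LinearMap.smul_apply,
          LinearMap.id_apply, map_smul, hk]
    have hz0 : z = 0 := by
      ext v
      have hv : v ∈ P ⊔ Q := by rw [hPQ]; trivial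
      obtain ⟨p, hp, q, hq, rfl⟩ := Submodule.mem_sup.1 hv
      rw [map_add, hz.2.1 q hq, add_zero, LinearMap.zero_apply]
      apply hfQ _ (hz.1 p)
      rw [← hcf, hfP p hp, map_zero]
    exact Subtype.ext hz0
  have hS : Function.Surjective T := LinearMap.injective_iff_surjective.1 hT
  obtain ⟨⟨z, hz⟩, h⟩ := hS ⟨n, hn⟩
  have h0 : z - X.conj z = n := congrArg Subtype.val h
  refine ⟨z, hz, fun v => ?_⟩
  rw [← h0, LinearMap.sub_apply, LinearEquiv.conj_apply_apply, X.symm_apply_apply]
  abel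

theorem comm_of_corner {B : LinearMap.BilinForm F V} {P Q : Submodule F V} (hP : Orth B P P)
    (hQ : Orth B Q Q) (hPQ : P ⊔ Q = ⊤) {X Z : V ≃ₗ[F] V} (hX : Iso B X) (hZ : Iso B Z)
    (hXP : ∀ v ∈ P, X v ∈ P) (hXQ : ∀ v ∈ Q, X v ∈ Q) (hZP : ∀ v ∈ P, Z v ∈ P)
    (hZQ : ∀ v ∈ Q, Z v ∈ Q) (f f' : F[X])
    (hfP : ∀ v ∈ P, aeval (X : Module.End F V) f v = 0)
    (hfQ : ∀ v ∈ Q, aeval (X : Module.End F V) f v = 0 → v = 0)
    (hfQ' : ∀ v ∈ Q, aeval (X : Module.End F V) f' v = 0)
    (hfP' : ∀ v ∈ P, aeval (X : Module.End F V) f' v = 0 → v = 0)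
    {n m : Module.End F V} (hn : n ∈ Skew B Q) (hm : m ∈ Skew B P) {g : V ≃ₗ[F] V}
    (hg : g = uni n (skew_sq hn) * (X * Z * X⁻¹ * Z⁻¹) * uni m (skew_sq hm)) : IsComm B g := by
  -- first factor
  obtain ⟨z, hz, hzX⟩ := sylvester hPQ hX hXQ f hfP hfQ hn
  have h1 : uni z (skew_sq hz) * X = uni n (skew_sq hn) * X * uni z (skew_sq hz) := by
    ext v
    simp only [LinearEquiv.mul_apply, uni_apply, map_add]
    have : n (X (z v)) = 0 := hn.2.1 _ (hXQ _ (hz.1 v))
    rw [hzX, this]
    abel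
  -- second factor
  set Y : V ≃ₗ[F] V := Z * X * Z⁻¹ with hY
  have hYi : Iso B Y := (hZ.mul hX).mul hZ.inv
  have hZPi := inv_mem_of_mem hZP
  have hZQi := inv_mem_of_mem hZQ
  have hYP : ∀ v ∈ P, Y v ∈ P := fun v hv => hZP _ (hXP _ (hZPi v hv))
  have hYf : ∀ p : F[X], ∀ v, aeval (Y : Module.End F V) p v = Z (aeval (X : Module.End F V) p (Z⁻¹ v)) := by
    intro p v
    induction p using Polynomial.induction_on' generalizing v with
    | add p q hp hq => simp only [map_add, LinearMap.add_apply, hp, hq]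
    | monomial k a =>
      have hk : ∀ k : ℕ, ∀ v, ((Y : Module.End F V) ^ k) v = Z (((X : Module.End F V) ^ k) (Z⁻¹ v)) := by
        intro k
        induction k with
        | zero => intro v; simp
        | succ k ih =>
          intro v
          rw [pow_succ, Module.End.mul_apply, pow_succ, Module.End.mul_apply, ih]
          have : Z⁻¹ ((Y : Module.End F V) v) = (X : Module.End F V) (Z⁻¹ v) := inv_app Z _
          rw [this]
      simp only [aeval_monomial, Module.algebraMap_end_eq_smul_id, Module.End.mul_apply, LinearMap.smul_apply,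
        LinearMap.id_apply, map_smul, hk]
  have hm' : -m ∈ Skew B P := (Skew B P).neg_mem hm
  have hQP : Q ⊔ P = ⊤ := by rw [sup_comm]; exact hPQ
  obtain ⟨w, hw, hwY⟩ := sylvester hQP hYi hYP f'
    (fun v hv => by rw [hYf, hfQ' _ (hZQi v hv), map_zero])
    (fun v hv h => by
      rw [hYf] at h
      have h2 : aeval (X : Module.End F V) f' (Z⁻¹ v) = 0 := by
        have := congrArg (fun t => Z⁻¹ t) h
        simpa [inv_app] using this
      have h3 := hfP' _ (hZPi v hv) h2
      have h4 := congrArg (fun t => Z t) h3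
      simpa [app_inv] using h4) hm'
  have h2 : uni w (skew_sq hw) * Y = (uni m (skew_sq hm))⁻¹ * Y * uni w (skew_sq hw) := by
    ext v
    simp only [LinearEquiv.mul_apply, uni_apply, uni_inv_apply, map_add]
    have : m (Y (w v)) = 0 := hm.2.1 _ (hYP _ (hw.1 v))
    rw [hwY, this, LinearMap.neg_apply]
    abel
  have hui : Iso B (uni z (skew_sq hz)) := skew_iso hQ hz
  have hti : Iso B (uni w (skew_sq hw)) := skew_iso hP hw
  clear_value Y
  generalize uni n (skew_sq hn) = a at *
  generalize uni m (skew_sq hm) = b at *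
  generalize uni z (skew_sq hz) = u at *
  generalize uni w (skew_sq hw) = t at *
  have e1 : a * X = u * X * u⁻¹ := by rw [h1]; group
  have e2 : Y⁻¹ * b = t * Y⁻¹ * t⁻¹ := by
    have : b⁻¹ * Y = t * Y * t⁻¹ := by rw [h2]; group
    have h3 := congrArg (fun s => s⁻¹) this
    simp only [mul_inv_rev, inv_inv] at h3
    rw [h3]
    group
  refine ⟨u * X * u⁻¹, t * Z * u⁻¹, (hui.mul hX).mul hui.inv, (hti.mul hZ).mul hui.inv, ?_⟩
  calc g = (a * X) * (Y⁻¹ * b) := by rw [hg, hY]; group
    _ = (u * X * u⁻¹) * (t * Y⁻¹ * t⁻¹) := by rw [e1, e2]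
    _ = _ := by rw [hY]; group

end Corner

end Cfsg.Agent.H144
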