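import Mathlib
import Cfsg.Agent.H144.Base

/-!
# Singer cycles whose characteristic polynomial is prime to its reciprocal

* `exists_singer` : over a finite field `F` with `5 ≤ q ^ n` or `4 ≤ q` there is an extension `K` of degree `n`
  and `ξ ∈ K` such that `ξ⁻¹` is not a conjugate of `ξ`.
* `sing_one`, `sing_neg` : the elements of `GL(P)` used for the corners `1` and `-1`.
* `comm_of_factor` : the version of `comm_of_corner` with data on `P` only, for an alternating form.
-/

set_option autoImplicit false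
open Polynomial

namespace Cfsg.Agent.H144

theorem exists_singer (F : Type*) [Field F] [Finite F] (n : ℕ) (hn : n ≠ 0)
    (h : 5 ≤ Nat.card F ^ n ∨ 4 ≤ Nat.card F) :
    ∃ (K : Type) (_ : Field K) (_ : Algebra F K) (_ : FiniteDimensional F K), Module.finrank F K = n ∧
      ∃ ξ : K, ξ ≠ 0 ∧ aeval ξ⁻¹ (minpoly F ξ) ≠ 0 ∧ aeval ξ (minpoly F ξ⁻¹) ≠ 0 := by
  have : NeZero n := ⟨hn⟩
  obtain ⟨p, hp⟩ := CharP.exists F
  have : Fact p.Prime := ⟨CharP.char_is_prime F p⟩
  refine ⟨FiniteField.Extension F p n, inferInstance, inferInstance, inferInstance,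
    FiniteField.finrank_extension F p n, ?_⟩
  obtain ⟨u, hu⟩ := IsCyclic.exists_generator (α := (FiniteField.Extension F p n)ˣ)
  have key : ¬ IsConjRoot F (u : FiniteField.Extension F p n) (u⁻¹ : (FiniteField.Extension F p n)ˣ) := by
    rw [isConjRoot_iff_exists_algEquiv]
    rintro ⟨σ, hσ⟩
    have h1 : ∀ a : (FiniteField.Extension F p n)ˣ, σ (a : FiniteField.Extension F p n) =
        ((a⁻¹ : (FiniteField.Extension F p n)ˣ) : FiniteField.Extension F p n) := by
      have hσu : σ (u : FiniteField.Extension F p n) =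
          ((u⁻¹ : (FiniteField.Extension F p n)ˣ) : FiniteField.Extension F p n) := by
        have h2 : σ ((u⁻¹ : (FiniteField.Extension F p n)ˣ) : FiniteField.Extension F p n) *
          σ (u : FiniteField.Extension F p n) = 1 := by
          rw [← map_mul, ← Units.val_mul, inv_mul_cancel, Units.val_one, map_one]
        rw [hσ] at h2
        rw [eq_comm]
        exact Units.inv_eq_of_mul_eq_one_right h2
      intro a
      obtain ⟨k, rfl⟩ := Subgroup.mem_zpowers_iff.1 (hu a)
      have h3 : Units.map (σ : FiniteField.Extension F p n →* FiniteField.Extension F p n) u = u⁻¹ :=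
        Units.ext hσu
      have h4 : Units.map (σ : FiniteField.Extension F p n →* FiniteField.Extension F p n) (u ^ k) =
        (u ^ k)⁻¹ := by rw [map_zpow, h3, inv_zpow]
      exact congrArg Units.val h4
    have h2 : ∀ a : FiniteField.Extension F p n, a ≠ 0 → σ a = a⁻¹ := by
      intro a ha
      have := h1 (Units.mk0 a ha)
      simpa using this
    rcases h with h | h
    · -- every element satisfies `t (t + 1) (t² + t + 1) = 0`
      have : Fintype (FiniteField.Extension F p n) := Fintype.ofFinite _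
      have h3 := Polynomial.eq_zero_of_natDegree_lt_card_of_eval_eq_zero
        (X * (X + 1) * (X ^ 2 + X + 1) : (FiniteField.Extension F p n)[X]) Function.injective_id (by
          intro a
          simp only [id, eval_mul, eval_add, eval_X, eval_one, eval_pow]
          by_cases ha : a = 0
          · simp [ha]
          by_cases ha' : a + 1 = 0
          · simp [ha']
          have h4 := h2 (a + 1) ha'
          rw [map_add, map_one, h2 a ha] at h4
          have h5 : a ^ 2 + a + 1 = 0 := by
            field_simp at h4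
            linear_combination h4
          rw [h5, mul_zero]) (by
          have h4 : (X * (X + 1) * (X ^ 2 + X + 1) : (FiniteField.Extension F p n)[X]).natDegree ≤ 4 := by
            compute_degree
          have h5 := FiniteField.natCard_extension F p n
          rw [Nat.card_eq_fintype_card] at h5
          omega)
      have h4 : (X * (X + 1) * (X ^ 2 + X + 1) : (FiniteField.Extension F p n)[X]).coeff 4 = 1 := by
        have : (X * (X + 1) * (X ^ 2 + X + 1) : (FiniteField.Extension F p n)[X]) =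
          X ^ 4 + C 2 * X ^ 3 + C 2 * X ^ 2 + X := by
          simp only [map_ofNat]; ring
        rw [this]
        simp [coeff_X]
      rw [h3] at h4
      simp at h4
    · have : Fintype F := Fintype.ofFinite _
      have h3 := Polynomial.eq_zero_of_natDegree_lt_card_of_eval_eq_zero
        (X * (X ^ 2 - 1) : F[X]) Function.injective_id (by
          intro a
          simp only [id, eval_mul, eval_sub, eval_X, eval_one, eval_pow]
          by_cases ha : a = 0
          · simp [ha]
          have h4 := h2 (algebraMap F _ a) (by simpa using ha)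
          rw [AlgEquiv.commutes, ← map_inv₀] at h4
          have h5 := (algebraMap F (FiniteField.Extension F p n)).injective h4
          have h6 : a ^ 2 = 1 := by
            rw [pow_two]
            nth_rewrite 2 [h5]
            exact mul_inv_cancel₀ ha
          rw [h6]; ring) (by
          have h4 : (X * (X ^ 2 - 1) : F[X]).natDegree ≤ 3 := by
            compute_degree
          rw [Nat.card_eq_fintype_card] at h
          omega)
      have h4 : (X * (X ^ 2 - 1) : F[X]).coeff 3 = 1 := by
        have : (X * (X ^ 2 - 1) : F[X]) = X ^ 3 - X := by ring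
        rw [this]
        simp [coeff_X]
      rw [h3] at h4
      simp at h4
  refine ⟨u, u.ne_zero, ?_, ?_⟩
  · intro h0
    apply key
    rw [← Units.val_inv_eq_inv_val] at h0
    exact minpoly.eq_of_irreducible_of_monic (minpoly.irreducible (Algebra.IsIntegral.isIntegral _)) h0
      (minpoly.monic (Algebra.IsIntegral.isIntegral _))
  · intro h0
    apply key
    rw [← Units.val_inv_eq_inv_val] at h0
    exact (minpoly.eq_of_irreducible_of_monic (minpoly.irreducible (Algebra.IsIntegral.isIntegral _)) h0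
      (minpoly.monic (Algebra.IsIntegral.isIntegral _))).symm

variable {F V : Type*} [Field F] [AddCommGroup V] [Module F V]

/-- The polynomial conditions on `x`. -/
def Sing (x : V ≃ₗ[F] V) (f f' : F[X]) : Prop :=
  (∀ v, aeval (x : Module.End F V) f v = 0) ∧
  (∀ v, aeval ((x⁻¹ : V ≃ₗ[F] V) : Module.End F V) f v = 0 → v = 0) ∧
  (∀ v, aeval ((x⁻¹ : V ≃ₗ[F] V) : Module.End F V) f' v = 0) ∧
  (∀ v, aeval (x : Module.End F V) f' v = 0 → v = 0)

theorem aeval_conj {M : Type*} [AddCommGroup M] [Module F M] (e : V ≃ₗ[F] M) (x : M ≃ₗ[F] M) (x' : V ≃ₗ[F] V)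
    (h : ∀ v, x' v = e.symm (x (e v))) (p : F[X]) (v : V) :
    aeval (x' : Module.End F V) p v = e.symm (aeval (x : Module.End F M) p (e v)) := by
  induction p using Polynomial.induction_on' generalizing v with
  | add p q hp hq => simp only [map_add, LinearMap.add_apply, hp, hq]
  | monomial k a =>
    have hk : ∀ k : ℕ, ∀ v, ((x' : Module.End F V) ^ k) v = e.symm (((x : Module.End F M) ^ k) (e v)) := by
      intro k
      induction k with
      | zero => intro v; simp
      | succ k ih =>
        intro v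
        rw [pow_succ', Module.End.mul_apply, ih, pow_succ', Module.End.mul_apply]
        change x' _ = _
        rw [h, e.apply_symm_apply]
        rfl
    simp only [aeval_monomial, Module.algebraMap_end_eq_smul_id, Module.End.mul_apply, LinearMap.smul_apply,
      LinearMap.id_apply, hk, map_smul]

theorem Sing.conj {M : Type*} [AddCommGroup M] [Module F M] (e : V ≃ₗ[F] M) {x : M ≃ₗ[F] M} {f f' : F[X]}
    (hx : Sing x f f') {x' : V ≃ₗ[F] V} (h : ∀ v, x' v = e.symm (x (e v))) : Sing x' f f' := by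
  have hi : ∀ v, x'⁻¹ v = e.symm (x⁻¹ (e v)) := by
    intro v
    have : x' (e.symm (x⁻¹ (e v))) = v := by
      rw [h, e.apply_symm_apply, app_inv, e.symm_apply_apply]
    rw [← this, inv_app, this]
  refine ⟨fun v => ?_, fun v hv => ?_, fun v => ?_, fun v hv => ?_⟩
  · rw [aeval_conj e x x' h, hx.1, map_zero]
  · rw [aeval_conj e x⁻¹ x'⁻¹ hi] at hv
    exact e.map_eq_zero_iff.1 (hx.2.1 _ (e.symm.map_eq_zero_iff.1 hv))
  · rw [aeval_conj e x⁻¹ x'⁻¹ hi, hx.2.2.1, map_zero]
  · rw [aeval_conj e x x' h] at hv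
    exact e.map_eq_zero_iff.1 (hx.2.2.2 _ (e.symm.map_eq_zero_iff.1 hv))

theorem aeval_smul {K M : Type*} [Field K] [Algebra F K] [AddCommGroup M] [Module K M] [Module F M]
    [IsScalarTower F K M] (ξ : K) (y : Module.End F M) (hy : ∀ v, y v = ξ • v) (p : F[X]) (v : M) :
    aeval y p v = (aeval ξ p) • v := by
  induction p using Polynomial.induction_on' generalizing v with
  | add p q hp hq => simp only [map_add, LinearMap.add_apply, hp, hq, add_smul]
  | monomial k a =>
    have hk : ∀ k : ℕ, ∀ v, (y ^ k) v = ξ ^ k • v := by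
      intro k
      induction k with
      | zero => intro v; simp
      | succ k ih =>
        intro v
        rw [pow_succ', Module.End.mul_apply, ih, hy, smul_smul, pow_succ']
    simp only [aeval_monomial, Module.algebraMap_end_eq_smul_id, Module.End.mul_apply, LinearMap.smul_apply,
      LinearMap.id_apply, hk]
    rw [mul_smul, algebraMap_smul]

theorem sing_smul {K M : Type*} [Field K] [Algebra F K] [AddCommGroup M] [Module K M] [Module F M]
    [IsScalarTower F K M] (ξ : K) (hξ : ξ ≠ 0) (h1 : aeval ξ⁻¹ (minpoly F ξ) ≠ 0)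
    (h2 : aeval ξ (minpoly F ξ⁻¹) ≠ 0) (y : M ≃ₗ[F] M) (hy : ∀ v, y v = ξ • v) :
    Sing y (minpoly F ξ) (minpoly F ξ⁻¹) := by
  have hi : ∀ v, (y⁻¹ : M ≃ₗ[F] M) v = ξ⁻¹ • v := by
    intro v
    have : y (ξ⁻¹ • v) = v := by rw [hy, smul_smul, mul_inv_cancel₀ hξ, one_smul]
    nth_rewrite 1 [← this]
    rw [inv_app]
  refine ⟨fun v => ?_, fun v hv => ?_, fun v => ?_, fun v hv => ?_⟩
  · rw [aeval_smul ξ _ hy, minpoly.aeval, zero_smul]
  · rw [aeval_smul ξ⁻¹ _ hi] at hv
    exact (smul_eq_zero.1 hv).resolve_left h1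
  · rw [aeval_smul ξ⁻¹ _ hi, minpoly.aeval, zero_smul]
  · rw [aeval_smul ξ _ hy] at hv
    exact (smul_eq_zero.1 hv).resolve_left h2

theorem Sing.expand {x y : V ≃ₗ[F] V} (h : ∀ v, x (x v) = y v) {f f' : F[X]} (hy : Sing y f f') :
    Sing x (Polynomial.expand F 2 f) (Polynomial.expand F 2 f') := by
  have h1 : (x : Module.End F V) ^ 2 = (y : Module.End F V) := by
    ext v
    rw [pow_two, Module.End.mul_apply]
    exact h v
  have h2 : ((x⁻¹ : V ≃ₗ[F] V) : Module.End F V) ^ 2 = ((y⁻¹ : V ≃ₗ[F] V) : Module.End F V) := by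
    ext v
    rw [pow_two, Module.End.mul_apply]
    change x⁻¹ (x⁻¹ v) = y⁻¹ v
    have h3 : y (x⁻¹ (x⁻¹ v)) = v := by rw [← h, app_inv, app_inv]
    nth_rewrite 2 [← h3]
    rw [inv_app]
  refine ⟨fun v => ?_, fun v hv => ?_, fun v => ?_, fun v hv => ?_⟩
  · rw [expand_aeval, h1, hy.1]
  · rw [expand_aeval, h2] at hv
    exact hy.2.1 _ hv
  · rw [expand_aeval, h2, hy.2.2.1]
  · rw [expand_aeval, h1] at hv
    exact hy.2.2.2 _ hv

theorem sing_one [Finite F] [FiniteDimensional F V] (hV : Module.finrank F V ≠ 0)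
    (h : 5 ≤ Nat.card F ^ Module.finrank F V ∨ 4 ≤ Nat.card F) :
    ∃ (x : V ≃ₗ[F] V) (f f' : F[X]), Sing x f f' := by
  obtain ⟨K, _, _, _, hK, ξ, hξ, h1, h2⟩ := exists_singer F (Module.finrank F V) hV h
  let e : V ≃ₗ[F] K := LinearEquiv.ofFinrankEq V K hK.symm
  let y : K ≃ₗ[F] K := LinearEquiv.ofLinearMap
    (LinearMap.mulLeft F ξ) (LinearMap.mulLeft F ξ⁻¹)
    (by ext v; simp [mul_inv_cancel_left₀ hξ]) (by ext v; simp [inv_mul_cancel_left₀ hξ])
  exact ⟨e.trans (y.trans e.symm), _, _, (sing_smul ξ hξ h1 h2 y (fun v => rfl)).conj e (fun v => rfl)⟩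

theorem sing_neg [Finite F] [FiniteDimensional F V] (j : ℕ) (hj : j ≠ 0) (hV : Module.finrank F V = 2 * j)
    (h : 5 ≤ Nat.card F ^ j ∨ 4 ≤ Nat.card F) :
    ∃ (x z : V ≃ₗ[F] V) (f f' : F[X]), Sing x f f' ∧ ∀ v, x (z (x⁻¹ (z⁻¹ v))) = -v := by
  obtain ⟨K, _, _, _, hK, ξ, hξ, h1, h2⟩ := exists_singer F j hj h
  let e : V ≃ₗ[F] (K × K) := LinearEquiv.ofFinrankEq V (K × K) (by
    rw [Module.finrank_prod, hK, hV]; ring)
  let y : (K × K) ≃ₗ[F] (K × K) := LinearEquiv.ofLinearMap
    (LinearMap.prodMap (LinearMap.mulLeft F ξ) (LinearMap.mulLeft F ξ))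
    (LinearMap.prodMap (LinearMap.mulLeft F ξ⁻¹) (LinearMap.mulLeft F ξ⁻¹))
    (by ext v <;> simp [mul_inv_cancel_left₀ hξ]) (by ext v <;> simp [inv_mul_cancel_left₀ hξ])
  let x : (K × K) ≃ₗ[F] (K × K) := LinearEquiv.ofLinearMap
    (((LinearMap.mulLeft F ξ) ∘ₗ LinearMap.snd F K K).prod (LinearMap.fst F K K))
    ((LinearMap.snd F K K).prod ((LinearMap.mulLeft F ξ⁻¹) ∘ₗ LinearMap.fst F K K))
    (by ext v <;> simp [mul_inv_cancel_left₀ hξ]) (by ext v <;> simp [inv_mul_cancel_left₀ hξ])
  let z : (K × K) ≃ₗ[F] (K × K) := LinearEquiv.ofLinearMap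
    (LinearMap.prodMap LinearMap.id (-LinearMap.id)) (LinearMap.prodMap LinearMap.id (-LinearMap.id))
    (by ext v <;> simp) (by ext v <;> simp)
  have hy : Sing y (minpoly F ξ) (minpoly F ξ⁻¹) := sing_smul ξ hξ h1 h2 y (fun v => rfl)
  have hx := hy.expand (x := x) (fun v => rfl)
  refine ⟨e.trans (x.trans e.symm), e.trans (z.trans e.symm), _, _, hx.conj e (fun v => rfl), fun v => ?_⟩
  have hx' : ∀ w, (e.trans (x.trans e.symm))⁻¹ w = e.symm (x.symm (e w)) := fun w => rfl
  have hz' : ∀ w, (e.trans (z.trans e.symm))⁻¹ w = e.symm (z.symm (e w)) := fun w => rfl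
  rw [hx', hz']
  change e.symm (x (e (e.symm (z (e (e.symm (x.symm (e (e.symm (z.symm (e v)))))))))) ) = -v
  simp only [e.apply_symm_apply]
  rw [e.symm_apply_eq, map_neg]
  obtain ⟨a, b⟩ := e v
  change (ξ * -(ξ⁻¹ * a), -b) = -(a, b)
  rw [mul_neg, mul_inv_cancel_left₀ hξ]
  rfl

end Cfsg.Agent.H144
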