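import Mathlib
import Cfsg.Agent.H144.Sing

/-!
# The Levi subgroup `GL(P)` of the symplectic group of `V = P ⊕ Q`, and corners `1` and `-1`

`B` alternating and nondegenerate, `P`, `Q` totally isotropic with `P ⊔ Q = ⊤`.
* `levi` : every `x ∈ GL(P)` extends to an isometry preserving `Q`.
* `c1_factor` : if `(g - 1) P ≤ Q` then `g = (1 + n) (1 + m)`.
* `c1_comm` : `C1 B g` implies `IsComm B g` if `5 ≤ q ^ n` or `4 ≤ q`, where `dim V = 2 n`.
* `c1_neg_comm` : the same for `C1 B (-g)`, `n = 2 j` and `5 ≤ q ^ j` or `4 ≤ q`.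
-/

set_option autoImplicit false
open Polynomial

namespace Cfsg.Agent.H144

variable {F V : Type*} [Field F] [AddCommGroup V] [Module F V]

/-- Alternating. -/
def Alt (B : LinearMap.BilinForm F V) : Prop := ∀ v, B v v = 0

/-- Nondegenerate. -/
def Nond (B : LinearMap.BilinForm F V) : Prop := ∀ v, (∀ w, B v w = 0) → v = 0

theorem Alt.neg {B : LinearMap.BilinForm F V} (hB : Alt B) (x y : V) : B x y = - B y x := by
  have h := hB (x + y)
  simp only [map_add, LinearMap.add_apply, hB x, hB y] at h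
  linear_combination h

theorem Alt.zero {B : LinearMap.BilinForm F V} (hB : Alt B) {x y : V} (h : B x y = 0) : B y x = 0 := by
  rw [hB.neg, h, neg_zero]

theorem Orth.symm {B : LinearMap.BilinForm F V} (hB : Alt B) {P Q : Submodule F V} (h : Orth B P Q) :
    Orth B Q P := fun x hx y hy => hB.zero (h y hy x hx)

theorem mem_sup_top {P Q : Submodule F V} (h : P ⊔ Q = ⊤) (v : V) : ∃ p ∈ P, ∃ q ∈ Q, p + q = v :=
  Submodule.mem_sup.1 (by rw [h]; trivial)

theorem eq_zero_of_orth {B : LinearMap.BilinForm F V} (hN : Nond B) {P Q : Submodule F V}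
    (hPQ : P ⊔ Q = ⊤) {v : V} (h1 : ∀ w ∈ P, B v w = 0) (h2 : ∀ w ∈ Q, B v w = 0) : v = 0 := by
  apply hN
  intro w
  obtain ⟨p, hp, q, hq, rfl⟩ := mem_sup_top hPQ w
  rw [map_add, h1 p hp, h2 q hq, add_zero]

theorem isCompl_of {B : LinearMap.BilinForm F V} (hN : Nond B) {P Q : Submodule F V}
    (hP : Orth B P P) (hQ : Orth B Q Q) (hPQ : P ⊔ Q = ⊤) : IsCompl P Q := by
  refine ⟨?_, codisjoint_iff.2 hPQ⟩
  rw [Submodule.disjoint_def]
  intro v hv hv'
  exact eq_zero_of_orth hN hPQ (hP v hv) (hQ v hv')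

/-- `P = P^⊥`. -/
theorem mem_of_orth {B : LinearMap.BilinForm F V} (hN : Nond B) {P Q : Submodule F V}
    (hP : Orth B P P) (hQ : Orth B Q Q) (hPQ : P ⊔ Q = ⊤) {v : V}
    (h : ∀ w ∈ P, B v w = 0) : v ∈ P := by
  obtain ⟨p, hp, q, hq, rfl⟩ := mem_sup_top hPQ v
  have : q = 0 := by
    apply eq_zero_of_orth hN hPQ _ (hQ q hq)
    intro w hw
    have := h w hw
    rwa [map_add, LinearMap.add_apply, hP p hp w hw, zero_add] at this
  rw [this, add_zero]
  exact hp

theorem aeval_adj {B : LinearMap.BilinForm F V} {X : V ≃ₗ[F] V} (hX : Iso B X) (f : F[X]) (v w : V) :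
    B v (aeval (X : Module.End F V) f w) = B (aeval ((X⁻¹ : V ≃ₗ[F] V) : Module.End F V) f v) w := by
  induction f using Polynomial.induction_on' generalizing v w with
  | add p q hp hq => simp only [map_add, LinearMap.add_apply, hp, hq]
  | monomial k a =>
    have hk : ∀ k : ℕ, ∀ v w, B v (((X : Module.End F V) ^ k) w) =
        B ((((X⁻¹ : V ≃ₗ[F] V) : Module.End F V) ^ k) v) w := by
      intro k
      induction k with
      | zero => intro v w; simp
      | succ k ih =>
        intro v w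
        rw [pow_succ, Module.End.mul_apply, ih, pow_succ', Module.End.mul_apply]
        exact hX.adj' _ _
    simp only [aeval_monomial, Module.algebraMap_end_eq_smul_id, Module.End.mul_apply, LinearMap.smul_apply,
      LinearMap.id_apply, hk, map_smul]

theorem aeval_mem {X : Module.End F V} {P : Submodule F V} (h : ∀ v ∈ P, X v ∈ P) (f : F[X]) :
    ∀ v ∈ P, aeval X f v ∈ P := by
  intro v hv
  induction f using Polynomial.induction_on' with
  | add p q hp hq => simpa only [map_add, LinearMap.add_apply] using P.add_mem hp hq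
  | monomial k a =>
    have hk : ∀ k : ℕ, (X ^ k) v ∈ P := by
      intro k
      induction k with
      | zero => simpa using hv
      | succ k ih =>
        rw [pow_succ', Module.End.mul_apply]
        exact h _ ih
    simp only [aeval_monomial, Module.algebraMap_end_eq_smul_id, Module.End.mul_apply, LinearMap.smul_apply,
      LinearMap.id_apply]
    exact P.smul_mem _ (hk k)

theorem aeval_restrict {X : Module.End F V} {P : Submodule F V} {x : Module.End F P}
    (h : ∀ v : P, X v = x v) (f : F[X]) (v : P) : aeval X f v = (aeval x f v : P) := by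
  induction f using Polynomial.induction_on' with
  | add p q hp hq => simp only [map_add, LinearMap.add_apply, hp, hq, Submodule.coe_add]
  | monomial k a =>
    have hk : ∀ k : ℕ, (X ^ k) v = ((x ^ k) v : P) := by
      intro k
      induction k with
      | zero => simp
      | succ k ih =>
        rw [pow_succ', Module.End.mul_apply, ih, h, pow_succ', Module.End.mul_apply]
    simp only [aeval_monomial, Module.algebraMap_end_eq_smul_id, Module.End.mul_apply, LinearMap.smul_apply,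
      LinearMap.id_apply, hk, Submodule.coe_smul]

section FD

variable [FiniteDimensional F V]

theorem finrank_eq {B : LinearMap.BilinForm F V} (hB : Alt B) (hN : Nond B) {P Q : Submodule F V}
    (hP : Orth B P P) (hQ : Orth B Q Q) (hPQ : P ⊔ Q = ⊤) : Module.finrank F P = Module.finrank F Q := by
  have key : ∀ P Q : Submodule F V, Orth B P P → Orth B Q Q → P ⊔ Q = ⊤ →
      Module.finrank F Q ≤ Module.finrank F P := by
    intro P Q hP hQ hPQ
    let e : Q →ₗ[F] Module.Dual F P := (B.compl₁₂ P.subtype Q.subtype).flip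
    have he : Function.Injective e := by
      rw [← LinearMap.ker_eq_bot, LinearMap.ker_eq_bot']
      intro q hq
      have : (q : V) = 0 := by
        apply eq_zero_of_orth hN hPQ _ (hQ q q.2)
        intro w hw
        have := LinearMap.congr_fun hq ⟨w, hw⟩
        exact hB.zero this
      exact Subtype.ext this
    have := LinearMap.finrank_le_finrank_of_injective he
    rwa [Subspace.dual_finrank_eq] at this
  exact le_antisymm (key Q P hQ hP (by rw [sup_comm]; exact hPQ)) (key P Q hP hQ hPQ)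

theorem finrank_two {B : LinearMap.BilinForm F V} (hB : Alt B) (hN : Nond B) {P Q : Submodule F V}
    (hP : Orth B P P) (hQ : Orth B Q Q) (hPQ : P ⊔ Q = ⊤) :
    Module.finrank F V = 2 * Module.finrank F P := by
  have h := isCompl_of hN hP hQ hPQ
  have h1 := Submodule.finrank_add_eq_of_isCompl h
  have h2 := finrank_eq hB hN hP hQ hPQ
  omega

theorem levi {B : LinearMap.BilinForm F V} (hB : Alt B) (hN : Nond B) {P Q : Submodule F V}
    (hP : Orth B P P) (hQ : Orth B Q Q) (hPQ : P ⊔ Q = ⊤) (x : P ≃ₗ[F] P) :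
    ∃ X : V ≃ₗ[F] V, Iso B X ∧ (∀ v : P, X v = x v) ∧ (∀ v ∈ Q, X v ∈ Q) := by
  have hc := isCompl_of hN hP hQ hPQ
  let e₀ : Q →ₗ[F] Module.Dual F P := (B.compl₁₂ P.subtype Q.subtype).flip
  have he₀ : Function.Injective e₀ := by
    rw [← LinearMap.ker_eq_bot, LinearMap.ker_eq_bot']
    intro q hq
    have : (q : V) = 0 := by
      apply eq_zero_of_orth hN hPQ _ (hQ q q.2)
      intro w hw
      have := LinearMap.congr_fun hq ⟨w, hw⟩
      exact hB.zero this
    exact Subtype.ext this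
  let e : Q ≃ₗ[F] Module.Dual F P := LinearEquiv.ofInjectiveOfFinrankEq e₀ he₀ (by
    rw [Subspace.dual_finrank_eq]; exact (finrank_eq hB hN hP hQ hPQ).symm)
  have he : ∀ (q : Q) (p : P), e q p = B p q := fun q p => rfl
  let x' : Q ≃ₗ[F] Q := e.trans (x.symm.dualMap.trans e.symm)
  have hx' : ∀ (p : P) (q : Q), B (x p) (x' q) = B p q := by
    intro p q
    rw [← he, ← he]
    change e (e.symm (x.symm.dualMap (e q))) (x p) = _
    rw [e.apply_symm_apply, LinearEquiv.dualMap_apply, x.symm_apply_apply]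
  let E := Submodule.prodEquivOfIsCompl P Q hc
  have hE : ∀ (p : P) (q : Q), E.symm (p + q) = (p, q) := by
    intro p q
    rw [E.symm_apply_eq]
    rfl
  let X : V ≃ₗ[F] V := E.symm.trans ((x.prodCongr x').trans E)
  have hX : ∀ (p : P) (q : Q), X (p + q) = x p + x' q := by
    intro p q
    change E ((x.prodCongr x') (E.symm (p + q))) = _
    rw [hE]
    rfl
  refine ⟨X, ?_, fun v => ?_, fun v hv => ?_⟩
  · intro v w
    obtain ⟨p, hp, q, hq, rfl⟩ := mem_sup_top hPQ v
    obtain ⟨p', hp', q', hq', rfl⟩ := mem_sup_top hPQ w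
    have h1 := hX ⟨p, hp⟩ ⟨q, hq⟩
    have h2 := hX ⟨p', hp'⟩ ⟨q', hq'⟩
    simp only at h1 h2
    rw [h1, h2]
    simp only [map_add, LinearMap.add_apply]
    rw [hP _ (x ⟨p, hp⟩).2 _ (x ⟨p', hp'⟩).2, hQ _ (x' ⟨q, hq⟩).2 _ (x' ⟨q', hq'⟩).2,
      hP p hp p' hp', hQ q hq q' hq', hx', hB.neg (x' ⟨q, hq⟩ : V), hx', hB.neg q]
  · have := hX v 0
    simpa using this
  · have := hX 0 ⟨v, hv⟩
    simp only [Submodule.coe_zero, zero_add, map_zero] at this
    rw [this]
    exact (x' ⟨v, hv⟩).2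

/-- An isometry which preserves `Q` and is the scalar `c = ± 1` on `P` is the scalar `c`. -/
theorem levi_unique {B : LinearMap.BilinForm F V} (hB : Alt B) (hN : Nond B) {P Q : Submodule F V}
    (hP : Orth B P P) (hQ : Orth B Q Q) (hPQ : P ⊔ Q = ⊤) {D : V ≃ₗ[F] V} (hD : Iso B D)
    (hDQ : ∀ v ∈ Q, D v ∈ Q) (c : F) (hc : c * c = 1) (hDP : ∀ v ∈ P, D v = c • v) (v : V) : D v = c • v := by
  obtain ⟨p, hp, q, hq, rfl⟩ := mem_sup_top hPQ v
  have : D q - c • q = 0 := by
    apply eq_zero_of_orth hN hPQ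
    · intro w hw
      have h1 := hD q w
      rw [hDP w hw, map_smul, smul_eq_mul] at h1
      rw [map_sub, LinearMap.sub_apply, map_smul, LinearMap.smul_apply, smul_eq_mul]
      linear_combination c * h1 - (B (D q) w) * hc
    · intro w hw
      exact hQ _ (Q.sub_mem (hDQ q hq) (Q.smul_mem c hq)) w hw
  rw [map_add, hDP p hp, sub_eq_zero.1 this, smul_add]

theorem c1_factor {B : LinearMap.BilinForm F V} (hB : Alt B) (hN : Nond B) {P Q : Submodule F V}
    (hP : Orth B P P) (hQ : Orth B Q Q) (hPQ : P ⊔ Q = ⊤) {g : V ≃ₗ[F] V} (hg : Iso B g)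
    (h : ∀ v ∈ P, g v - v ∈ Q) :
    ∃ (n m : Module.End F V) (hn : n ∈ Skew B Q) (hm : m ∈ Skew B P),
      g = uni n (skew_sq hn) * uni m (skew_sq hm) := by
  have hc := isCompl_of hN hP hQ hPQ
  let n : Module.End F V := ((g : V →ₗ[F] V) - LinearMap.id) ∘ₗ P.projection Q hc
  have hnP : ∀ v ∈ P, n v = g v - v := by
    intro v hv
    change g (P.projection Q hc v) - P.projection Q hc v = _
    rw [Submodule.projection_apply_of_mem_left hc hv]
  have hnQ : ∀ v ∈ Q, n v = 0 := by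
    intro v hv
    change g (P.projection Q hc v) - P.projection Q hc v = _
    rw [Submodule.projection_apply_of_mem_right hc hv, map_zero, sub_zero]
  have hn : n ∈ Skew B Q := by
    refine ⟨fun v => ?_, hnQ, fun v w => ?_⟩
    · exact h _ (Submodule.projection_apply_mem hc v)
    · obtain ⟨p, hp, q, hq, rfl⟩ := mem_sup_top hPQ v
      obtain ⟨p', hp', q', hq', rfl⟩ := mem_sup_top hPQ w
      simp only [map_add, hnQ q hq, hnQ q' hq', add_zero, LinearMap.add_apply, hnP p hp, hnP p' hp']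
      rw [hQ _ (h p hp) q' hq', hQ q hq _ (h p' hp')]
      have h1 := hQ _ (h p hp) _ (h p' hp')
      simp only [map_sub, LinearMap.sub_apply, hg p p', hP p hp p' hp'] at h1
      simp only [map_sub, LinearMap.sub_apply, hP p hp p' hp']
      linear_combination -h1
  set u : V ≃ₗ[F] V := (uni n (skew_sq hn))⁻¹ * g with hu
  have hui : Iso B u := (skew_iso hQ hn).inv.mul hg
  have huP : ∀ v ∈ P, u v = v := by
    intro v hv
    rw [hu, LinearEquiv.mul_apply, uni_inv_apply]
    have h1 : n (g v) = g v - v := by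
      have h2 : g v = v + (g v - v) := by abel
      nth_rewrite 1 [h2]
      rw [map_add, hnP v hv, hnQ _ (h v hv), add_zero]
    rw [h1]; abel
  let m : Module.End F V := (u : V →ₗ[F] V) - LinearMap.id
  have hmv : ∀ v, m v = u v - v := fun v => rfl
  have hmP : ∀ v ∈ P, m v = 0 := by
    intro v hv
    rw [hmv, huP v hv, sub_self]
  have hmm : ∀ v, m v ∈ P := by
    intro v
    apply mem_of_orth hN hP hQ hPQ
    intro w hw
    have h1 := hui v w
    rw [huP w hw] at h1
    rw [hmv, map_sub, LinearMap.sub_apply, h1, sub_self]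
  have hm : m ∈ Skew B P := by
    refine ⟨hmm, hmP, fun v w => ?_⟩
    have h1 := hP _ (hmm v) _ (hmm w)
    have h2 := hui v w
    simp only [hmv, map_sub, LinearMap.sub_apply] at h1 ⊢
    linear_combination h2 - h1
  refine ⟨n, m, hn, hm, ?_⟩
  have : uni m (skew_sq hm) = u := by
    ext v
    rw [uni_apply, hmv]
    abel
  rw [this, hu]
  group

/-- Corners with data on `P`. -/
theorem comm_of_factor {B : LinearMap.BilinForm F V} (hB : Alt B) (hN : Nond B) {P Q : Submodule F V}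
    (hP : Orth B P P) (hQ : Orth B Q Q) (hPQ : P ⊔ Q = ⊤) {x z : P ≃ₗ[F] P} {f f' : F[X]}
    (hx : Sing x f f') {c : F} (hc : c * c = 1) (hxz : ∀ v, x (z (x⁻¹ (z⁻¹ v))) = c • v)
    {g h : V ≃ₗ[F] V} (hh : Iso B h) (hgh : ∀ v, g v = c • h v)
    (hPg : ∀ v ∈ P, h v - v ∈ Q) : IsComm B g := by
  obtain ⟨n, m, hn, hm, hnm⟩ := c1_factor hB hN hP hQ hPQ hh hPg
  obtain ⟨X, hX, hXx, hXQ⟩ := levi hB hN hP hQ hPQ x
  obtain ⟨Z, hZ, hZz, hZQ⟩ := levi hB hN hP hQ hPQ z
  have hXP : ∀ v ∈ P, X v ∈ P := fun v hv => by rw [hXx ⟨v, hv⟩]; exact (x ⟨v, hv⟩).2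
  have hZP : ∀ v ∈ P, Z v ∈ P := fun v hv => by rw [hZz ⟨v, hv⟩]; exact (z ⟨v, hv⟩).2
  have hXi : ∀ v : P, X⁻¹ v = (x⁻¹ v : P) := by
    intro v
    have h1 := hXx (x⁻¹ v)
    rw [app_inv] at h1
    rw [← h1, inv_app]
  have hZi : ∀ v : P, Z⁻¹ v = (z⁻¹ v : P) := by
    intro v
    have h1 := hZz (z⁻¹ v)
    rw [app_inv] at h1
    rw [← h1, inv_app]
  have hD : ∀ v, (X * Z * X⁻¹ * Z⁻¹) v = c • v := by
    apply levi_unique hB hN hP hQ hPQ (((hX.mul hZ).mul hX.inv).mul hZ.inv)
      (fun v hv => hXQ _ (hZQ _ (inv_mem_of_mem hXQ _ (inv_mem_of_mem hZQ _ hv)))) c hc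
    intro v hv
    have h1 := hxz ⟨v, hv⟩
    change X (Z (X⁻¹ (Z⁻¹ ((⟨v, hv⟩ : P) : V)))) = _
    rw [hZi, hXi, hZz, hXx, h1]
    rfl
  have hfP : ∀ v ∈ P, aeval (X : Module.End F V) f v = 0 := by
    intro v hv
    have h1 := aeval_restrict (X := (X : Module.End F V)) (x := (x : Module.End F P)) hXx f ⟨v, hv⟩
    rw [h1, hx.1]
    rfl
  have hfP' : ∀ v ∈ P, aeval (X : Module.End F V) f' v = 0 → v = 0 := by
    intro v hv h0
    have h1 := aeval_restrict (X := (X : Module.End F V)) (x := (x : Module.End F P)) hXx f' ⟨v, hv⟩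
    rw [h0] at h1
    exact congrArg Subtype.val (hx.2.2.2 ⟨v, hv⟩ (Subtype.ext h1.symm))
  have hfQ : ∀ v ∈ Q, aeval (X : Module.End F V) f v = 0 → v = 0 := by
    intro v hv h0
    apply eq_zero_of_orth hN hPQ _ (hQ v hv)
    intro w hw
    have hinj : Function.Injective (aeval ((x⁻¹ : P ≃ₗ[F] P) : Module.End F P) f) := by
      rw [← LinearMap.ker_eq_bot, LinearMap.ker_eq_bot']
      exact hx.2.1
    obtain ⟨w', hw'⟩ := (LinearMap.injective_iff_surjective.1 hinj) ⟨w, hw⟩
    have h1 := aeval_adj hX f (w' : V) v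
    have h2 := aeval_restrict (X := ((X⁻¹ : V ≃ₗ[F] V) : Module.End F V))
      (x := ((x⁻¹ : P ≃ₗ[F] P) : Module.End F P)) hXi f w'
    rw [h0, map_zero, h2, hw'] at h1
    exact hB.zero h1.symm
  have hfQ' : ∀ v ∈ Q, aeval (X : Module.End F V) f' v = 0 := by
    intro v hv
    apply eq_zero_of_orth hN hPQ _ (hQ _ (aeval_mem hXQ f' v hv))
    intro w hw
    have h1 := aeval_adj hX f' w v
    have h2 := aeval_restrict (X := ((X⁻¹ : V ≃ₗ[F] V) : Module.End F V))
      (x := ((x⁻¹ : P ≃ₗ[F] P) : Module.End F P)) hXi f' ⟨w, hw⟩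
    simp only at h2
    rw [h2, hx.2.2.1, Submodule.coe_zero, map_zero, LinearMap.zero_apply] at h1
    exact hB.zero h1
  apply comm_of_corner hP hQ hPQ hX hZ hXP hXQ hZP hZQ f f' hfP hfQ hfQ' hfP' hn hm
  ext v
  rw [hgh, hnm]
  have h1 : ∀ v, (uni n (skew_sq hn)) (c • v) = c • (uni n (skew_sq hn)) v := fun v => map_smul _ _ _
  simp only [LinearEquiv.mul_apply] at hD ⊢
  rw [hD, h1]

variable [Finite F]

theorem c1_comm {B : LinearMap.BilinForm F V} (hB : Alt B) (hN : Nond B) {n : ℕ}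
    (hV : Module.finrank F V = 2 * n) (hn : n ≠ 0) (h : 5 ≤ Nat.card F ^ n ∨ 4 ≤ Nat.card F)
    {g : V ≃ₗ[F] V} (hg : Iso B g) (hC : C1 B g) : IsComm B g := by
  obtain ⟨P, Q, hP, hQ, hPQ, hPg⟩ := hC
  have h2 := finrank_two hB hN hP hQ hPQ
  have h3 : Module.finrank F P = n := by omega
  obtain ⟨x, f, f', hx⟩ := sing_one (F := F) (V := P) (by omega) (by rw [h3]; exact h)
  refine comm_of_factor hB hN hP hQ hPQ (x := x) (z := 1) hx (c := 1) (by ring) (fun v => ?_) hg
    (fun v => by rw [one_smul]) hPg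
  rw [one_smul, inv_one]
  exact app_inv x v

theorem c1_neg_comm {B : LinearMap.BilinForm F V} (hB : Alt B) (hN : Nond B) {j : ℕ}
    (hV : Module.finrank F V = 2 * (2 * j)) (hj : j ≠ 0) (h : 5 ≤ Nat.card F ^ j ∨ 4 ≤ Nat.card F)
    {g h' : V ≃ₗ[F] V} (hh : Iso B h') (hgh : ∀ v, g v = - h' v) (hC : C1 B h') : IsComm B g := by
  obtain ⟨P, Q, hP, hQ, hPQ, hPg⟩ := hC
  have h2 := finrank_two hB hN hP hQ hPQ
  have h3 : Module.finrank F P = 2 * j := by omega
  obtain ⟨x, z, f, f', hx, hxz⟩ := sing_neg (F := F) (V := P) j hj h3 h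
  refine comm_of_factor hB hN hP hQ hPQ (x := x) (z := z) hx (c := -1) (by ring) (fun v => ?_) hh
    (fun v => by rw [hgh, neg_one_smul]) hPg
  rw [hxz, neg_one_smul]

end FD

end Cfsg.Agent.H144
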