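import Mathlib
import Cfsg.Agent.H144.Levi

/-!
# Complex structures in the symplectic group over a finite field of odd order

* `cplx_exists` : all isometries `J` with `J² = -1` are conjugate.
* `comm_of_inverted` : an isometry inverted by an isometry `J` with `J² = -1` is a commutator.
-/

set_option autoImplicit false
open Polynomial

universe u v

namespace Cfsg.Agent.H144

variable {F : Type u} [Field F]

theorem exists_sq_add_sq [Finite F] (h2 : (2 : F) ≠ 0) (c : F) : ∃ a b : F, a * a + b * b = c := by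
  have : Fintype F := Fintype.ofFinite F
  have hodd : Fintype.card F % 2 = 1 := by
    apply FiniteField.odd_card_of_char_ne_two
    intro h
    exact h2 (by exact_mod_cast (ringChar.spec F 2).2 (by rw [h]))
  obtain ⟨a, b, h⟩ := FiniteField.exists_root_sum_quadratic (R := F) (f := X ^ 2 - C c) (g := X ^ 2)
    (degree_X_pow_sub_C (by norm_num) _) (degree_X_pow 2) hodd
  refine ⟨a, b, ?_⟩
  simp only [eval_sub, eval_pow, eval_X, eval_C] at h
  linear_combination h

section Split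

variable {V : Type v} [AddCommGroup V] [Module F V]

theorem exists_unit [Finite F] (h2 : (2 : F) ≠ 0) {B : LinearMap.BilinForm F V} (hB : Alt B) (hN : Nond B)
    {J : V ≃ₗ[F] V} (hJ : Iso B J) (hJ2 : ∀ v, J (J v) = -v) [Nontrivial V] : ∃ v, B v (J v) = 1 := by
  obtain ⟨v, hv⟩ : ∃ v, B v (J v) ≠ 0 := by
    by_contra hcon
    push Not at hcon
    obtain ⟨v, hv⟩ := exists_ne (0 : V)
    apply hv
    apply hN
    intro w
    have h1 := hcon (v + J⁻¹ w)
    simp only [map_add, LinearMap.add_apply, app_inv, hcon v] at h1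
    have h3 := hcon (J⁻¹ w)
    rw [app_inv] at h3
    rw [h3] at h1
    have h4 : B (J⁻¹ w) (J v) = B v w := by
      have h5 := hJ (J⁻¹ w) (J v)
      rw [app_inv, hJ2, map_neg] at h5
      rw [← h5, hB.neg w v, neg_neg]
    rw [h4] at h1
    have h5 : (2 : F) * B v w = 0 := by linear_combination h1
    exact (mul_eq_zero.1 h5).resolve_left h2
  obtain ⟨a, b, hab⟩ := exists_sq_add_sq h2 (B v (J v))⁻¹
  refine ⟨a • v + b • J v, ?_⟩
  simp only [map_add, map_smul, hJ2, LinearMap.add_apply, LinearMap.smul_apply, smul_eq_mul, map_neg]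
  rw [hB v, hB (J v), hB.neg (J v) v]
  have h3 : (B v (J v))⁻¹ * B v (J v) = 1 := inv_mul_cancel₀ hv
  rw [← hab] at h3
  linear_combination h3

/-- coordinates with respect to `v`, `J v` -/
def cvec (B : LinearMap.BilinForm F V) (J : V ≃ₗ[F] V) (v : V) : V →ₗ[F] F × F :=
  (B.flip (J v)).prod (B v)

theorem cvec_apply (B : LinearMap.BilinForm F V) (J : V ≃ₗ[F] V) (v w : V) :
    cvec B J v w = (B w (J v), B v w) := rfl

theorem finrank_ker [FiniteDimensional F V] {B : LinearMap.BilinForm F V} (hB : Alt B) {J : V ≃ₗ[F] V}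
    {v : V} (hv : B v (J v) = 1) :
    Module.finrank F V = 2 + Module.finrank F (LinearMap.ker (cvec B J v)) := by
  have h1 := LinearMap.finrank_range_add_finrank_ker (cvec B J v)
  have h2 : LinearMap.range (cvec B J v) = ⊤ := by
    rw [LinearMap.range_eq_top]
    rintro ⟨a, b⟩
    refine ⟨a • v + b • J v, ?_⟩
    rw [cvec_apply]
    simp only [map_add, map_smul, LinearMap.add_apply, LinearMap.smul_apply, smul_eq_mul, hv, hB v, hB (J v)]
    simp
  rw [h2, finrank_top, Module.finrank_prod, Module.finrank_self] at h1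
  omega

end Split

theorem cplx_exists [Finite F] (h2 : (2 : F) ≠ 0) (n : ℕ) :
    ∀ (V₁ V₂ : Type v) [AddCommGroup V₁] [Module F V₁] [FiniteDimensional F V₁]
      [AddCommGroup V₂] [Module F V₂] [FiniteDimensional F V₂]
      (B₁ : LinearMap.BilinForm F V₁) (B₂ : LinearMap.BilinForm F V₂) (J₁ : V₁ ≃ₗ[F] V₁) (J₂ : V₂ ≃ₗ[F] V₂),
      Alt B₁ → Nond B₁ → Alt B₂ → Nond B₂ → Iso B₁ J₁ → Iso B₂ J₂ → (∀ v, J₁ (J₁ v) = -v) →
      (∀ v, J₂ (J₂ v) = -v) → Module.finrank F V₁ = n → Module.finrank F V₂ = n →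
      ∃ Z : V₁ ≃ₗ[F] V₂, (∀ x y, B₂ (Z x) (Z y) = B₁ x y) ∧ ∀ x, Z (J₁ x) = J₂ (Z x) := by
  induction n using Nat.strong_induction_on with
  | _ n ih =>
  intro V₁ V₂ _ _ _ _ _ _ B₁ B₂ J₁ J₂ hA₁ hN₁ hA₂ hN₂ hI₁ hI₂ hJ₁ hJ₂ hd₁ hd₂
  rcases Nat.eq_zero_or_pos n with rfl | hn
  · have h1 : Subsingleton V₁ := Module.finrank_zero_iff.1 hd₁
    have h2 : Subsingleton V₂ := Module.finrank_zero_iff.1 hd₂
    refine ⟨LinearEquiv.ofFinrankEq V₁ V₂ (by rw [hd₁, hd₂]), fun x y => ?_, fun x => Subsingleton.elim _ _⟩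
    rw [Subsingleton.elim x 0]
    simp
  · have : Nontrivial V₁ := (Module.finrank_pos_iff (R := F)).1 (by omega)
    have : Nontrivial V₂ := (Module.finrank_pos_iff (R := F)).1 (by omega)
    obtain ⟨v₁, hv₁⟩ := exists_unit h2 hA₁ hN₁ hI₁ hJ₁
    obtain ⟨v₂, hv₂⟩ := exists_unit h2 hA₂ hN₂ hI₂ hJ₂
    have hf₁ := finrank_ker hA₁ hv₁
    have hf₂ := finrank_ker hA₂ hv₂
    have key : ∀ (V : Type v) [AddCommGroup V] [Module F V] [FiniteDimensional F V]
        (B : LinearMap.BilinForm F V) (J : V ≃ₗ[F] V), Alt B → Nond B → Iso B J → (∀ v, J (J v) = -v) →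
        ∀ v, B v (J v) = 1 →
        ∃ (J' : LinearMap.ker (cvec B J v) ≃ₗ[F] LinearMap.ker (cvec B J v))
          (π : V →ₗ[F] LinearMap.ker (cvec B J v)),
          (∀ x, (J' x : V) = J x) ∧ Alt (B.restrict (LinearMap.ker (cvec B J v))) ∧
          Nond (B.restrict (LinearMap.ker (cvec B J v))) ∧
          (∀ w, w = (B w (J v)) • v + (B v w) • J v + (π w : V)) ∧
          (∀ w, π (J w) = J' (π w)) := by
      intro V _ _ _ B J hA hN hI hJ v hv
      have hmem : ∀ w, w ∈ LinearMap.ker (cvec B J v) ↔ B w (J v) = 0 ∧ B v w = 0 := by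
        intro w
        rw [LinearMap.mem_ker, cvec_apply, Prod.mk_eq_zero]
      have hJmem : ∀ w ∈ LinearMap.ker (cvec B J v), J w ∈ LinearMap.ker (cvec B J v) := by
        intro w hw
        rw [hmem] at hw ⊢
        refine ⟨?_, ?_⟩
        · rw [hI, hA.zero hw.2]
        · have h3 := hI (J v) w
          rw [hJ] at h3
          have h4 : B v (J w) = - B (J v) w := by rw [← h3, map_neg, LinearMap.neg_apply, neg_neg]
          rw [h4, hA.zero hw.1, neg_zero]
      have hJinv : ∀ w, J⁻¹ w = - J w := by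
        intro w
        have h3 : J (-J w) = w := by rw [map_neg, hJ, neg_neg]
        nth_rewrite 1 [← h3]
        rw [inv_app]
      let J' : LinearMap.ker (cvec B J v) ≃ₗ[F] LinearMap.ker (cvec B J v) :=
        LinearEquiv.ofLinearMap ((J : V →ₗ[F] V).restrict hJmem) (-((J : V →ₗ[F] V).restrict hJmem))
          (by
            ext x
            change J (-(J (x : V))) = x
            rw [map_neg, hJ, neg_neg])
          (by
            ext x
            change -(J (J (x : V))) = x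
            rw [hJ, neg_neg])
      have hJ' : ∀ x, (J' x : V) = J x := fun x => rfl
      have hπ : ∀ w, w - (B w (J v)) • v - (B v w) • J v ∈ LinearMap.ker (cvec B J v) := by
        intro w
        rw [hmem]
        simp only [map_sub, map_smul, LinearMap.sub_apply, LinearMap.smul_apply, smul_eq_mul, hv, hA v, hA (J v)]
        exact ⟨by ring, by ring⟩
      let π₀ : V →ₗ[F] V := LinearMap.id - (B.flip (J v)).smulRight v - (B v).smulRight (J v)
      let π : V →ₗ[F] LinearMap.ker (cvec B J v) := π₀.codRestrict _ hπ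
      have hπv : ∀ w, (π w : V) = w - (B w (J v)) • v - (B v w) • J v := fun w => rfl
      refine ⟨J', π, hJ', fun x => hA _, fun x hx => ?_, fun w => ?_, fun w => ?_⟩
      · apply Subtype.ext
        apply hN
        intro w
        have h3 := hx (π w)
        have h4 : B (x : V) (π w : V) = 0 := h3
        rw [hπv] at h4
        have h5 := (hmem x).1 x.2
        simp only [map_sub, map_smul, smul_eq_mul, h5.1, hA.zero h5.2] at h4
        simpa using h4
      · rw [hπv]; abel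
      · apply Subtype.ext
        rw [hJ', hπv, hπv]
        simp only [map_sub, map_smul, hJ]
        rw [hI]
        have h3 := hI (J v) w
        rw [hJ] at h3
        have h4 : B v (J w) = - B (J v) w := by rw [← h3, map_neg, LinearMap.neg_apply, neg_neg]
        rw [h4, hA.neg (J v) w, neg_neg, hA.neg w v]
        module
    obtain ⟨J₁', π₁, hJ₁', hA₁', hN₁', hπ₁, hπJ₁⟩ := key V₁ B₁ J₁ hA₁ hN₁ hI₁ hJ₁ v₁ hv₁
    obtain ⟨J₂', π₂, hJ₂', hA₂', hN₂', hπ₂, hπJ₂⟩ := key V₂ B₂ J₂ hA₂ hN₂ hI₂ hJ₂ v₂ hv₂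
    obtain ⟨Z, hZ, hZJ⟩ := ih (Module.finrank F (LinearMap.ker (cvec B₁ J₁ v₁))) (by omega)
      (LinearMap.ker (cvec B₁ J₁ v₁)) (LinearMap.ker (cvec B₂ J₂ v₂)) (B₁.restrict _) (B₂.restrict _) J₁' J₂'
      hA₁' hN₁' hA₂' hN₂' (fun x y => by
        change B₁ (J₁' x : V₁) (J₁' y : V₁) = B₁ x y
        rw [hJ₁', hJ₁', hI₁]) (fun x y => by
        change B₂ (J₂' x : V₂) (J₂' y : V₂) = B₂ x y
        rw [hJ₂', hJ₂', hI₂]) (fun x => Subtype.ext (by rw [hJ₁', hJ₁', hJ₁]; rfl))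
      (fun x => Subtype.ext (by rw [hJ₂', hJ₂', hJ₂]; rfl)) rfl (by omega)
    let T : V₁ →ₗ[F] V₂ := (B₁.flip (J₁ v₁)).smulRight v₂ + (B₁ v₁).smulRight (J₂ v₂) +
      (LinearMap.ker (cvec B₂ J₂ v₂)).subtype ∘ₗ (Z : _ →ₗ[F] _) ∘ₗ π₁
    have hT : ∀ w, T w = (B₁ w (J₁ v₁)) • v₂ + (B₁ v₁ w) • J₂ v₂ + (Z (π₁ w) : V₂) := fun w => rfl
    have hTB : ∀ x y, B₂ (T x) (T y) = B₁ x y := by
      intro x y
      have hm₁ : ∀ w : LinearMap.ker (cvec B₁ J₁ v₁), B₁ (w : V₁) (J₁ v₁) = 0 ∧ B₁ v₁ w = 0 := by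
        intro w
        have := w.2
        rwa [LinearMap.mem_ker, cvec_apply, Prod.mk_eq_zero] at this
      have hm₂ : ∀ w : LinearMap.ker (cvec B₂ J₂ v₂), B₂ (w : V₂) (J₂ v₂) = 0 ∧ B₂ v₂ w = 0 := by
        intro w
        have := w.2
        rwa [LinearMap.mem_ker, cvec_apply, Prod.mk_eq_zero] at this
      have e0 : ∀ (a b c d : F) (p q : LinearMap.ker (cvec B₁ J₁ v₁)),
          B₁ (a • v₁ + b • J₁ v₁ + (p : V₁)) (c • v₁ + d • J₁ v₁ + (q : V₁)) =
            a * d - b * c + B₁ (p : V₁) (q : V₁) := by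
        intro a b c d p q
        simp only [map_add, map_smul, LinearMap.add_apply, LinearMap.smul_apply, smul_eq_mul, hv₁, hA₁ v₁,
          hA₁ (J₁ v₁), (hm₁ _).1, (hm₁ _).2, hA₁.zero (hm₁ _).1, hA₁.zero (hm₁ _).2, hA₁.neg (J₁ v₁) v₁]
        ring
      have e1 : B₁ x y = (B₁ x (J₁ v₁)) * (B₁ v₁ y) - (B₁ v₁ x) * (B₁ y (J₁ v₁)) +
          B₁ (π₁ x : V₁) (π₁ y) := by
        conv_lhs => rw [hπ₁ x, hπ₁ y]
        rw [e0]
      rw [e1, hT, hT]
      have e2 := hZ (π₁ x) (π₁ y)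
      have e3 : B₂ (Z (π₁ x) : V₂) (Z (π₁ y) : V₂) = B₁ (π₁ x : V₁) (π₁ y) := e2
      rw [← e3]
      simp only [map_add, map_smul, LinearMap.add_apply, LinearMap.smul_apply, smul_eq_mul, hv₂, hA₂ v₂,
          hA₂ (J₂ v₂), (hm₂ _).1, (hm₂ _).2, hA₂.zero (hm₂ _).1, hA₂.zero (hm₂ _).2, hA₂.neg (J₂ v₂) v₂]
      ring
    have hinj : Function.Injective T := by
      rw [← LinearMap.ker_eq_bot, LinearMap.ker_eq_bot']
      intro w hw
      apply hN₁
      intro x
      rw [← hTB, hw, map_zero, LinearMap.zero_apply]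
    refine ⟨LinearEquiv.ofInjectiveOfFinrankEq T hinj (by rw [hd₁, hd₂]), hTB, fun x => ?_⟩
    change T (J₁ x) = J₂ (T x)
    rw [hT, hT]
    simp only [map_add, map_smul, hJ₂]
    rw [hπJ₁, hZJ, hJ₂', hI₁]
    have h3 := hI₁ (J₁ v₁) x
    rw [hJ₁] at h3
    have h4 : B₁ v₁ (J₁ x) = - B₁ (J₁ v₁) x := by rw [← h3, map_neg, LinearMap.neg_apply, neg_neg]
    rw [h4, hA₁.neg (J₁ v₁) x, neg_neg, hA₁.neg x v₁]
    module

theorem comm_of_inverted [Finite F] (h2 : (2 : F) ≠ 0) {V : Type v} [AddCommGroup V] [Module F V]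
    [FiniteDimensional F V] {B : LinearMap.BilinForm F V} (hB : Alt B) (hN : Nond B)
    {g J : V ≃ₗ[F] V} (hg : Iso B g) (hJ : Iso B J) (hJ2 : ∀ v, J (J v) = -v)
    (hgJ : ∀ v, g (J (g v)) = J v) : IsComm B g := by
  obtain ⟨Z, hZ, hZJ⟩ := cplx_exists h2 (Module.finrank F V) V V B B J (g * J) hB hN hB hN hJ (hg.mul hJ) hJ2
    (fun v => by
      change g (J (g (J v))) = -v
      rw [hgJ, hJ2]) rfl rfl
  refine ⟨Z, J, hZ, hJ, ?_⟩
  have h1 : Z * J = g * J * Z := by
    ext v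
    exact hZJ v
  rw [h1]
  group

end Cfsg.Agent.H144
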