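import Mathlib
import Cfsg.Agent.H144.Cplx

/-!
# Isotropic `F[g + g⁻¹]`-submodules

`c = cc g = g + g⁻¹`, `K c v = F[c] v`.
* `c1_of_cyclic`, `c1_of_two`, `c1_of_odd` : three situations in which `C1On B g P` holds.
-/

set_option autoImplicit false
open Polynomial

noncomputable section

namespace Cfsg.Agent.H144

variable {F V : Type*} [Field F] [AddCommGroup V] [Module F V]

/-- `F[c] v` -/
def K (c : Module.End F V) (v : V) : Submodule F V :=
  LinearMap.range ((LinearMap.applyₗ v : Module.End F V →ₗ[F] V) ∘ₗ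
    (aeval c : F[X] →ₐ[F] Module.End F V).toLinearMap)

theorem mem_K {c : Module.End F V} {v w : V} : w ∈ K c v ↔ ∃ f : F[X], aeval c f v = w := Iff.rfl

theorem self_mem_K (c : Module.End F V) (v : V) : v ∈ K c v := mem_K.2 ⟨1, by simp⟩

theorem aeval_mul_app (c : Module.End F V) (f h : F[X]) (v : V) :
    aeval c (f * h) v = aeval c f (aeval c h v) := by
  rw [map_mul, Module.End.mul_apply]

theorem aeval_comm_app (c : Module.End F V) (f h : F[X]) (v : V) :
    aeval c f (aeval c h v) = aeval c h (aeval c f v) := by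
  rw [← aeval_mul_app, mul_comm, aeval_mul_app]

theorem K_app_mem {c : Module.End F V} {v w : V} (h : w ∈ K c v) (f : F[X]) : aeval c f w ∈ K c v := by
  obtain ⟨h, rfl⟩ := h
  exact ⟨f * h, aeval_mul_app c f h v⟩

theorem K_inv {c : Module.End F V} {v w : V} (h : w ∈ K c v) : c w ∈ K c v := by
  have := K_app_mem h X
  rwa [aeval_X] at this

theorem K_le {c : Module.End F V} {v : V} {P : Submodule F V} (hP : ∀ w ∈ P, c w ∈ P) (hv : v ∈ P) :
    K c v ≤ P := by
  rintro _ ⟨f, rfl⟩
  exact aeval_mem hP f v hv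

/-- `g + g⁻¹` -/
def cc (g : V ≃ₗ[F] V) : Module.End F V := (g : V →ₗ[F] V) + ((g⁻¹ : V ≃ₗ[F] V) : V →ₗ[F] V)

theorem cc_apply (g : V ≃ₗ[F] V) (v : V) : cc g v = g v + g⁻¹ v := rfl

theorem cc_adj {B : LinearMap.BilinForm F V} {g : V ≃ₗ[F] V} (hg : Iso B g) (v w : V) :
    B (cc g v) w = B v (cc g w) := by
  rw [cc_apply, cc_apply, map_add, LinearMap.add_apply, map_add, hg.adj, hg.inv.adj, inv_inv, add_comm]

theorem adj_aeval {B : LinearMap.BilinForm F V} {c : Module.End F V} (hc : ∀ v w, B (c v) w = B v (c w))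
    (f : F[X]) (v w : V) : B (aeval c f v) w = B v (aeval c f w) := by
  induction f using Polynomial.induction_on' generalizing v w with
  | add p q hp hq => simp only [map_add, LinearMap.add_apply, hp, hq]
  | monomial k a =>
    have hk : ∀ k : ℕ, ∀ v w, B ((c ^ k) v) w = B v ((c ^ k) w) := by
      intro k
      induction k with
      | zero => intro v w; simp
      | succ k ih =>
        intro v w
        rw [pow_succ, Module.End.mul_apply, ih, hc, ← Module.End.mul_apply, ← pow_succ']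
        rw [pow_succ, Module.End.mul_apply]
    simp only [aeval_monomial, Module.algebraMap_end_eq_smul_id, Module.End.mul_apply, LinearMap.smul_apply,
      LinearMap.id_apply, hk, map_smul]

theorem comm_aeval {c : Module.End F V} {g : V →ₗ[F] V} (h : ∀ v, g (c v) = c (g v)) (f : F[X]) (v : V) :
    g (aeval c f v) = aeval c f (g v) := by
  induction f using Polynomial.induction_on' generalizing v with
  | add p q hp hq => simp only [map_add, LinearMap.add_apply, hp, hq]
  | monomial k a =>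
    have hk : ∀ k : ℕ, ∀ v, g ((c ^ k) v) = (c ^ k) (g v) := by
      intro k
      induction k with
      | zero => intro v; simp
      | succ k ih =>
        intro v
        rw [pow_succ, Module.End.mul_apply, ih, h, Module.End.mul_apply]
    simp only [aeval_monomial, Module.algebraMap_end_eq_smul_id, Module.End.mul_apply, LinearMap.smul_apply,
      LinearMap.id_apply, hk, map_smul]

theorem cc_comm (g : V ≃ₗ[F] V) (v : V) : g (cc g v) = cc g (g v) := by
  rw [cc_apply, cc_apply, map_add, app_inv, inv_app]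

theorem cc_comm_inv (g : V ≃ₗ[F] V) (v : V) : g⁻¹ (cc g v) = cc g (g⁻¹ v) := by
  rw [cc_apply, cc_apply, map_add, app_inv, inv_app]

theorem g_aeval (g : V ≃ₗ[F] V) (f : F[X]) (v : V) : g (aeval (cc g) f v) = aeval (cc g) f (g v) :=
  comm_aeval (g := (g : V →ₗ[F] V)) (cc_comm g) f v

theorem ginv_aeval (g : V ≃ₗ[F] V) (f : F[X]) (v : V) : g⁻¹ (aeval (cc g) f v) = aeval (cc g) f (g⁻¹ v) :=
  comm_aeval (g := ((g⁻¹ : V ≃ₗ[F] V) : V →ₗ[F] V)) (cc_comm_inv g) f v

theorem g_sq (g : V ≃ₗ[F] V) (v : V) : g (g v) = cc g (g v) - v := by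
  rw [cc_apply, inv_app]; abel

section Form

variable {B : LinearMap.BilinForm F V} {g : V ≃ₗ[F] V}

theorem cc_alt (hB : Alt B) (hg : Iso B g) (v : V) : B v (cc g v) = 0 := by
  rw [cc_apply, map_add, ← hg.adj, hB.neg (g v) v]
  ring

theorem self_aeval (hB : Alt B) (hg : Iso B g) (f : F[X]) (v : V) : B v (aeval (cc g) f v) = 0 := by
  have hk : ∀ k : ℕ, B v ((cc g ^ k) v) = 0 := by
    intro k
    have h1 : ∀ (i : ℕ) (x y : V), B ((cc g ^ i) x) y = B x ((cc g ^ i) y) := by
      intro i x y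
      have := adj_aeval (cc_adj hg) (X ^ i) x y
      simpa using this
    rcases Nat.even_or_odd' k with ⟨i, rfl | rfl⟩
    · rw [two_mul, pow_add, Module.End.mul_apply, ← h1]
      exact hB _
    · rw [show 2 * i + 1 = i + (1 + i) by ring, pow_add, Module.End.mul_apply, ← h1, pow_add, pow_one,
        Module.End.mul_apply]
      exact cc_alt hB hg _
  induction f using Polynomial.induction_on' with
  | add p q hp hq => simp only [map_add, LinearMap.add_apply, hp, hq, add_zero]
  | monomial k a =>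
    simp only [aeval_monomial, Module.algebraMap_end_eq_smul_id, Module.End.mul_apply, LinearMap.smul_apply,
      LinearMap.id_apply, hk, map_smul, smul_zero]

theorem K_orth_of (hg : Iso B g) {x y : V} (h : ∀ f : F[X], B x (aeval (cc g) f y) = 0) :
    Orth B (K (cc g) x) (K (cc g) y) := by
  rintro _ ⟨f, rfl⟩ _ ⟨h', rfl⟩
  change B (aeval (cc g) f x) (aeval (cc g) h' y) = 0
  rw [adj_aeval (cc_adj hg), ← aeval_mul_app, h]

theorem K_isotropic (hB : Alt B) (hg : Iso B g) (v : V) : Orth B (K (cc g) v) (K (cc g) v) :=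
  K_orth_of hg (fun f => self_aeval hB hg f v)

theorem orth_sup {P Q R : Submodule F V} (h1 : Orth B P R) (h2 : Orth B Q R) : Orth B (P ⊔ Q) R := by
  intro x hx y hy
  obtain ⟨p, hp, q, hq, rfl⟩ := Submodule.mem_sup.1 hx
  rw [map_add, LinearMap.add_apply, h1 p hp y hy, h2 q hq y hy, add_zero]

theorem orth_sup' {P Q R : Submodule F V} (h1 : Orth B R P) (h2 : Orth B R Q) : Orth B R (P ⊔ Q) := by
  intro x hx y hy
  obtain ⟨p, hp, q, hq, rfl⟩ := Submodule.mem_sup.1 hy
  rw [map_add, h1 x hx p hp, h2 x hx q hq, add_zero]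

theorem isotropic_sup (hB : Alt B) {P Q : Submodule F V} (h1 : Orth B P P) (h2 : Orth B Q Q)
    (h3 : Orth B P Q) : Orth B (P ⊔ Q) (P ⊔ Q) :=
  orth_sup (orth_sup' h1 h3) (orth_sup' (h3.symm hB) h2)

/-- `C1` on a subspace -/
def C1On (B : LinearMap.BilinForm F V) (g : V ≃ₗ[F] V) (R : Submodule F V) : Prop :=
  ∃ P Q : Submodule F V, Orth B P P ∧ Orth B Q Q ∧ P ⊔ Q = R ∧ ∀ v ∈ P, g v - v ∈ Q

/-- `F[g] v` -/
def M (g : V ≃ₗ[F] V) (v : V) : Submodule F V := K (cc g) v ⊔ K (cc g) (g v)

theorem self_mem_M (g : V ≃ₗ[F] V) (v : V) : v ∈ M g v := Submodule.mem_sup_left (self_mem_K _ _)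

theorem M_inv {w v : V} (h : w ∈ M g v) : g w ∈ M g v := by
  obtain ⟨_, ⟨f, rfl⟩, _, ⟨f', rfl⟩, rfl⟩ := Submodule.mem_sup.1 h
  change g (aeval (cc g) f v + aeval (cc g) f' (g v)) ∈ _
  rw [map_add, g_aeval, g_aeval, g_sq, map_sub]
  refine (M g v).add_mem (Submodule.mem_sup_right ⟨f, rfl⟩) ((M g v).sub_mem
    (Submodule.mem_sup_right ?_) (Submodule.mem_sup_left ⟨f', rfl⟩))
  have : aeval (cc g) f' (cc g (g v)) = aeval (cc g) (f' * X) (g v) := by
    rw [aeval_mul_app, aeval_X]
  rw [this]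
  exact ⟨_, rfl⟩

theorem M_inv' {w v : V} (h : w ∈ M g v) : g⁻¹ w ∈ M g v := by
  obtain ⟨_, ⟨f, rfl⟩, _, ⟨f', rfl⟩, rfl⟩ := Submodule.mem_sup.1 h
  change g⁻¹ (aeval (cc g) f v + aeval (cc g) f' (g v)) ∈ _
  have h1 : g⁻¹ v = cc g v - g v := by rw [cc_apply]; abel
  rw [map_add, ginv_aeval, ginv_aeval, inv_app, h1, map_sub]
  refine (M g v).add_mem ((M g v).sub_mem (Submodule.mem_sup_left ?_) (Submodule.mem_sup_right ⟨f, rfl⟩))
    (Submodule.mem_sup_left ⟨f', rfl⟩)
  have : aeval (cc g) f (cc g v) = aeval (cc g) (f * X) v := by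
    rw [aeval_mul_app, aeval_X]
  rw [this]
  exact ⟨_, rfl⟩

theorem M_le {v : V} {P : Submodule F V} (h : ∀ w ∈ P, g w ∈ P) (h' : ∀ w ∈ P, g⁻¹ w ∈ P) (hv : v ∈ P) :
    M g v ≤ P := by
  have hc : ∀ w ∈ P, cc g w ∈ P := fun w hw => by
    rw [cc_apply]; exact P.add_mem (h w hw) (h' w hw)
  exact sup_le (K_le hc hv) (K_le hc (h v hv))

theorem c1_of_cyclic (hB : Alt B) (hg : Iso B g) (v : V) : C1On B g (M g v) := by
  refine ⟨K (cc g) v, K (cc g) (g v - v), K_isotropic hB hg v, K_isotropic hB hg _, ?_, ?_⟩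
  · apply le_antisymm
    · apply sup_le le_sup_left
      apply K_le
      · intro w hw
        obtain ⟨_, ⟨f, rfl⟩, _, ⟨f', rfl⟩, rfl⟩ := Submodule.mem_sup.1 hw
        rw [map_add]
        exact Submodule.add_mem _ (Submodule.mem_sup_left (K_inv ⟨f, rfl⟩))
          (Submodule.mem_sup_right (K_inv ⟨f', rfl⟩))
      · exact (M g v).sub_mem (Submodule.mem_sup_right (self_mem_K _ _)) (self_mem_M g v)
    · apply sup_le le_sup_left
      rintro _ ⟨f, rfl⟩
      change aeval (cc g) f (g v) ∈ _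
      have : aeval (cc g) f (g v) = aeval (cc g) f v + aeval (cc g) f (g v - v) := by
        rw [map_sub]; abel
      rw [this]
      exact Submodule.add_mem _ (Submodule.mem_sup_left ⟨f, rfl⟩) (Submodule.mem_sup_right ⟨f, rfl⟩)
  · rintro _ ⟨f, rfl⟩
    change g (aeval (cc g) f v) - aeval (cc g) f v ∈ _
    rw [g_aeval, ← map_sub]
    exact ⟨f, rfl⟩

theorem K_add_mem {c : Module.End F V} {P : Submodule F V} {u v w : V} (hu : K c u ≤ P) (hv : K c v ≤ P)
    (h : w = u + v) : K c w ≤ P := by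
  rintro _ ⟨f, rfl⟩
  change aeval c f w ∈ P
  rw [h, map_add]
  exact P.add_mem (hu ⟨f, rfl⟩) (hv ⟨f, rfl⟩)

theorem K_neg_mem {c : Module.End F V} {P : Submodule F V} {u w : V} (hu : K c u ≤ P)
    (h : w = -u) : K c w ≤ P := by
  rintro _ ⟨f, rfl⟩
  change aeval c f w ∈ P
  rw [h, map_neg]
  exact P.neg_mem (hu ⟨f, rfl⟩)

theorem K_app_le {c : Module.End F V} {P : Submodule F V} {u : V} (hu : K c u ≤ P) (f : F[X]) :
    K c (aeval c f u) ≤ P := by
  rintro _ ⟨h, rfl⟩
  change aeval c h (aeval c f u) ∈ P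
  rw [← aeval_mul_app]
  exact hu ⟨_, rfl⟩

theorem sub_form (hg : Iso B g) (u y : V) : B (g u - u) (g y - y) = 2 * B u y - B u (cc g y) := by
  rw [cc_apply]
  simp only [map_sub, LinearMap.sub_apply, map_add]
  rw [hg, hg.adj u y]
  ring

theorem c1_of_two (hB : Alt B) (hg : Iso B g) {x y : V} (h : ∀ f : F[X], B x (aeval (cc g) f y) = 0) :
    C1On B g (M g x ⊔ M g y) := by
  refine ⟨K (cc g) x ⊔ K (cc g) y, K (cc g) (g x - x) ⊔ K (cc g) (g y - y), ?_, ?_, ?_, ?_⟩
  · exact isotropic_sup hB (K_isotropic hB hg _) (K_isotropic hB hg _) (K_orth_of hg h)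
  · refine isotropic_sup hB (K_isotropic hB hg _) (K_isotropic hB hg _) (K_orth_of hg fun f => ?_)
    rw [map_sub (aeval (cc g) f), ← g_aeval, sub_form hg, h]
    have : cc g (aeval (cc g) f y) = aeval (cc g) (X * f) y := by rw [aeval_mul_app, aeval_X]
    rw [this, h]
    ring
  · apply le_antisymm
    · refine sup_le (sup_le ?_ ?_) (sup_le ?_ ?_)
      · exact le_sup_of_le_left le_sup_left
      · exact le_sup_of_le_right le_sup_left
      · refine K_add_mem (u := g x) (v := -x) ?_ (K_neg_mem (u := x) ?_ rfl) (by abel)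
        · exact le_sup_of_le_left le_sup_right
        · exact le_sup_of_le_left le_sup_left
      · refine K_add_mem (u := g y) (v := -y) ?_ (K_neg_mem (u := y) ?_ rfl) (by abel)
        · exact le_sup_of_le_right le_sup_right
        · exact le_sup_of_le_right le_sup_left
    · refine sup_le (sup_le ?_ ?_) (sup_le ?_ ?_)
      · exact le_sup_of_le_left le_sup_left
      · refine K_add_mem (u := g x - x) (v := x) ?_ ?_ (by abel)
        · exact le_sup_of_le_right le_sup_left
        · exact le_sup_of_le_left le_sup_left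
      · exact le_sup_of_le_left le_sup_right
      · refine K_add_mem (u := g y - y) (v := y) ?_ ?_ (by abel)
        · exact le_sup_of_le_right le_sup_right
        · exact le_sup_of_le_left le_sup_right
  · intro v hv
    obtain ⟨_, ⟨f, rfl⟩, _, ⟨f', rfl⟩, rfl⟩ := Submodule.mem_sup.1 hv
    change g (aeval (cc g) f x + aeval (cc g) f' y) - (aeval (cc g) f x + aeval (cc g) f' y) ∈ _
    have : g (aeval (cc g) f x + aeval (cc g) f' y) - (aeval (cc g) f x + aeval (cc g) f' y) =
        aeval (cc g) f (g x - x) + aeval (cc g) f' (g y - y) := by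
      rw [map_add, g_aeval, g_aeval, map_sub, map_sub]; abel
    rw [this]
    exact Submodule.add_mem _ (Submodule.mem_sup_left ⟨f, rfl⟩) (Submodule.mem_sup_right ⟨f', rfl⟩)

theorem c1_of_odd (hB : Alt B) (hg : Iso B g) {x y : V}
    (h : ∀ f : F[X], B (x - g⁻¹ x) (aeval (cc g) f y) = 0) :
    C1On B g (M g x ⊔ M g y) := by
  have h1 : ∀ f : F[X], B x (aeval (cc g) f (g y - y)) = 0 := by
    intro f
    have h2 := h f
    rw [map_sub, LinearMap.sub_apply, hg.inv.adj, inv_inv, g_aeval] at h2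
    rw [map_sub, map_sub]
    linear_combination -h2
  have h1' : ∀ f : F[X], B (g x - x) (aeval (cc g) f (g y)) = 0 := by
    intro f
    have h2 := h f
    rw [← hg] at h2
    rwa [map_sub, app_inv, g_aeval] at h2
  refine ⟨K (cc g) x ⊔ K (cc g) (g y - y), K (cc g) (g x - x) ⊔ K (cc g) (g y), ?_, ?_, ?_, ?_⟩
  · exact isotropic_sup hB (K_isotropic hB hg _) (K_isotropic hB hg _) (K_orth_of hg h1)
  · exact isotropic_sup hB (K_isotropic hB hg _) (K_isotropic hB hg _) (K_orth_of hg h1')
  · apply le_antisymm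
    · refine sup_le (sup_le ?_ ?_) (sup_le ?_ ?_)
      · exact le_sup_of_le_left le_sup_left
      · refine K_add_mem (u := g y) (v := -y) ?_ (K_neg_mem (u := y) ?_ rfl) (by abel)
        · exact le_sup_of_le_right le_sup_right
        · exact le_sup_of_le_right le_sup_left
      · refine K_add_mem (u := g x) (v := -x) ?_ (K_neg_mem (u := x) ?_ rfl) (by abel)
        · exact le_sup_of_le_left le_sup_right
        · exact le_sup_of_le_left le_sup_left
      · exact le_sup_of_le_right le_sup_right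
    · refine sup_le (sup_le ?_ ?_) (sup_le ?_ ?_)
      · exact le_sup_of_le_left le_sup_left
      · refine K_add_mem (u := g x - x) (v := x) ?_ ?_ (by abel)
        · exact le_sup_of_le_right le_sup_left
        · exact le_sup_of_le_left le_sup_left
      · refine K_add_mem (u := g y) (v := -(g y - y)) ?_ (K_neg_mem (u := g y - y) ?_ rfl) (by abel)
        · exact le_sup_of_le_right le_sup_right
        · exact le_sup_of_le_left le_sup_right
      · exact le_sup_of_le_right le_sup_right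
  · intro v hv
    obtain ⟨_, ⟨f, rfl⟩, _, ⟨f', rfl⟩, rfl⟩ := Submodule.mem_sup.1 hv
    change g (aeval (cc g) f x + aeval (cc g) f' (g y - y)) -
      (aeval (cc g) f x + aeval (cc g) f' (g y - y)) ∈ _
    have : g (aeval (cc g) f x + aeval (cc g) f' (g y - y)) -
        (aeval (cc g) f x + aeval (cc g) f' (g y - y)) =
        aeval (cc g) f (g x - x) + aeval (cc g) (f' * (X - C 2)) (g y) := by
      rw [map_add, g_aeval, g_aeval, map_sub, aeval_mul_app, g_sq]
      simp only [map_sub, aeval_X, aeval_C, LinearMap.sub_apply, Module.algebraMap_end_apply, map_smul]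
      module
    rw [this]
    exact Submodule.add_mem _ (Submodule.mem_sup_left ⟨f, rfl⟩) (Submodule.mem_sup_right ⟨_, rfl⟩)

end Form

end Cfsg.Agent.H144
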