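import Mathlib
import Cfsg.Agent.H144.Struct

/-!
# Nondegenerate invariant subspaces with one or two generators
-/

set_option autoImplicit false
open Polynomial

noncomputable section

namespace Cfsg.Agent.H144

variable {F V : Type*} [Field F] [AddCommGroup V] [Module F V]

/-- nondegenerate subspace -/
def Nd (B : LinearMap.BilinForm F V) (P : Submodule F V) : Prop :=
  ∀ v ∈ P, (∀ w ∈ P, B v w = 0) → v = 0

theorem nd_cyclic {B : LinearMap.BilinForm F V} {g : V ≃ₗ[F] V} (hB : Alt B) (hg : Iso B g) {π : F[X]}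
    (hπ : Irreducible π) {e : ℕ} (he : aeval (cc g) (π ^ (e + 1)) = 0) {v : V} {f : F[X]}
    (h : B v (g (aeval (cc g) (π ^ e * f) v)) ≠ 0) : Nd B (M g v) := by
  let I : Ideal F[X] :=
    { carrier := {p | ∀ q : F[X], B v (g (aeval (cc g) (p * q) v)) = 0}
      zero_mem' := fun q => by simp
      add_mem' := fun {a b} ha hb q => by
        rw [add_mul, map_add, LinearMap.add_apply, map_add, map_add, ha q, hb q, add_zero]
      smul_mem' := fun c p hp q => by
        rw [smul_eq_mul, show c * p * q = p * (c * q) by ring]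
        exact hp (c * q) }
  have hI : ∀ p ∈ I, aeval (cc g) p = 0 := by
    obtain ⟨d, hd⟩ := (IsPrincipalIdealRing.principal I).principal
    have hπI : π ^ (e + 1) ∈ I := fun q => by
      rw [map_mul, he, zero_mul, LinearMap.zero_apply, map_zero, map_zero]
    rw [hd] at hπI
    change π ^ (e + 1) ∈ Ideal.span {d} at hπI
    rw [Ideal.mem_span_singleton] at hπI
    obtain ⟨i, hi, hid⟩ := (dvd_prime_pow hπ.prime _).1 hπI
    rcases Nat.lt_or_ge i (e + 1) with hlt | hge
    · exfalso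
      apply h
      have h1 : π ^ e ∈ I := by
        rw [hd]
        change π ^ e ∈ Ideal.span {d}
        rw [Ideal.mem_span_singleton]
        exact hid.dvd.trans (pow_dvd_pow π (by omega))
      exact h1 f
    · intro p hp
      rw [hd] at hp
      change p ∈ Ideal.span {d} at hp
      rw [Ideal.mem_span_singleton] at hp
      have h1 : π ^ (e + 1) ∣ p := by
        have : i = e + 1 := by omega
        rw [this] at hid
        exact hid.symm.dvd.trans hp
      obtain ⟨q, rfl⟩ := h1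
      rw [map_mul, he, zero_mul]
  intro w hw hww
  obtain ⟨_, ⟨f₁, rfl⟩, _, ⟨f₂, rfl⟩, rfl⟩ := Submodule.mem_sup.1 hw
  change ∀ u ∈ M g v, B (aeval (cc g) f₁ v + aeval (cc g) f₂ (g v)) u = 0 at hww
  change aeval (cc g) f₁ v + aeval (cc g) f₂ (g v) = 0
  have h1 : f₁ ∈ I := by
    intro q
    have h2 := hww (aeval (cc g) q (g v)) (Submodule.mem_sup_right ⟨q, rfl⟩)
    rw [map_add, LinearMap.add_apply, adj_aeval (cc_adj hg), adj_aeval (cc_adj hg), ← aeval_mul_app,
      ← aeval_mul_app, self_aeval hB hg, add_zero] at h2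
    rwa [g_aeval]
  have h2 : f₂ ∈ I := by
    intro q
    have h2 := hww (aeval (cc g) q v) (Submodule.mem_sup_left ⟨q, rfl⟩)
    rw [map_add, LinearMap.add_apply, adj_aeval (cc_adj hg), ← aeval_mul_app, self_aeval hB hg, zero_add,
      hB.neg, neg_eq_zero, adj_aeval (cc_adj hg), ← aeval_mul_app, ← g_aeval] at h2
    rwa [mul_comm]
  rw [hI _ h1, hI _ h2]
  simp

section Nil

variable {N : Module.End F V} {m : ℕ}

theorem pow_aeval (hN : N ^ (m + 1) = 0) (f : F[X]) (v : V) :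
    (N ^ m) (aeval N f v) = f.coeff 0 • (N ^ m) v := by
  obtain ⟨q, hq⟩ : ∃ q : F[X], f = X * q + C (f.coeff 0) := ⟨f.divX, by rw [mul_comm]; exact (divX_mul_X_add f).symm⟩
  have h1 : (N ^ m) (N (aeval N q v)) = 0 := by
    rw [← Module.End.mul_apply, ← pow_succ, hN, LinearMap.zero_apply]
  conv_lhs => rw [hq]
  simp only [map_add, map_mul, aeval_X, aeval_C, LinearMap.add_apply, Module.End.mul_apply,
    Module.algebraMap_end_apply, map_smul, h1, zero_add]

theorem aeval_X_pow_mul (i : ℕ) (f : F[X]) (v : V) : aeval N (X ^ i * f) v = (N ^ i) (aeval N f v) := by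
  rw [map_mul, map_pow, aeval_X, Module.End.mul_apply]

theorem pow_pow_app (N : Module.End F V) (i j : ℕ) (v : V) : (N ^ i) ((N ^ j) v) = (N ^ (i + j)) v := by
  rw [pow_add, Module.End.mul_apply]

/-- An element `p(N) x + s(N) y` orthogonal to the relevant vectors has `p`, `s` divisible by `X ^ (m+1)`. -/
theorem pair_free {B : LinearMap.BilinForm F V} (hN : N ^ (m + 1) = 0) {x y : V}
    (hx : B x ((N ^ m) x) = 0) (hy : B y ((N ^ m) y) = 0) (hxy : B x ((N ^ m) y) ≠ 0)
    (hyx : B y ((N ^ m) x) ≠ 0) (p s : F[X])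
    (h1 : ∀ j : ℕ, B x ((N ^ j) (aeval N p x + aeval N s y)) = 0)
    (h2 : ∀ j : ℕ, B y ((N ^ j) (aeval N p x + aeval N s y)) = 0) : X ^ (m + 1) ∣ p ∧ X ^ (m + 1) ∣ s := by
  have key : ∀ i : ℕ, i ≤ m + 1 → X ^ i ∣ p ∧ X ^ i ∣ s := by
    intro i
    induction i with
    | zero => intro _; simp
    | succ i ih =>
      intro hi
      obtain ⟨⟨p₁, hp₁⟩, ⟨s₁, hs₁⟩⟩ := ih (by omega)
      have e1 : (N ^ (m - i)) (aeval N p x + aeval N s y) = p₁.coeff 0 • (N ^ m) x + s₁.coeff 0 • (N ^ m) y := by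
        rw [hp₁, hs₁, aeval_X_pow_mul, aeval_X_pow_mul, map_add, pow_pow_app, pow_pow_app,
          show m - i + i = m by omega, pow_aeval hN, pow_aeval hN]
      have h3 := h1 (m - i)
      have h4 := h2 (m - i)
      rw [e1, map_add, map_smul, map_smul, hx, smul_zero, zero_add, smul_eq_mul] at h3
      rw [e1, map_add, map_smul, map_smul, hy, smul_zero, add_zero, smul_eq_mul] at h4
      have h5 := (mul_eq_zero.1 h3).resolve_right hxy
      have h6 := (mul_eq_zero.1 h4).resolve_right hyx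
      constructor
      · rw [hp₁, pow_succ]
        exact mul_dvd_mul_left _ (X_dvd_iff.2 h6)
      · rw [hs₁, pow_succ]
        exact mul_dvd_mul_left _ (X_dvd_iff.2 h5)
  exact key (m + 1) le_rfl

theorem single_free {B : LinearMap.BilinForm F V} (hN : N ^ (m + 1) = 0) {x : V}
    (hx : B x ((N ^ m) x) ≠ 0) (p : F[X])
    (h1 : ∀ j : ℕ, B x ((N ^ j) (aeval N p x)) = 0) : X ^ (m + 1) ∣ p := by
  have key : ∀ i : ℕ, i ≤ m + 1 → X ^ i ∣ p := by
    intro i
    induction i with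
    | zero => intro _; simp
    | succ i ih =>
      intro hi
      obtain ⟨p₁, hp₁⟩ := ih (by omega)
      have e1 : (N ^ (m - i)) (aeval N p x) = p₁.coeff 0 • (N ^ m) x := by
        rw [hp₁, aeval_X_pow_mul, pow_pow_app, show m - i + i = m by omega, pow_aeval hN]
      have h3 := h1 (m - i)
      rw [e1, map_smul, smul_eq_mul] at h3
      have h5 := (mul_eq_zero.1 h3).resolve_right hx
      rw [hp₁, pow_succ]
      exact mul_dvd_mul_left _ (X_dvd_iff.2 h5)
  exact key (m + 1) le_rfl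

end Nil

/-- `h - 1` -/
def nn (h : V ≃ₗ[F] V) : Module.End F V := (h : V →ₗ[F] V) - 1

theorem nn_apply (h : V ≃ₗ[F] V) (v : V) : nn h v = h v - v := rfl

section Unip

variable [FiniteDimensional F V]

theorem M_eq (h : V ≃ₗ[F] V) (v : V) : M h v = K (nn h) v := by
  apply le_antisymm
  · have h1 : ∀ w ∈ K (nn h) v, h w ∈ K (nn h) v := by
      intro w hw
      have : h w = nn h w + w := by rw [nn_apply]; abel
      rw [this]
      exact Submodule.add_mem _ (K_inv hw) hw
    exact M_le h1 (inv_mem_of_mem h1) (self_mem_K _ _)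
  · apply K_le _ (self_mem_M h v)
    intro w hw
    rw [nn_apply]
    exact Submodule.sub_mem _ (M_inv hw) hw

theorem nn_pow_mem {h : V ≃ₗ[F] V} {P : Submodule F V} (hP : ∀ w ∈ P, h w ∈ P) (j : ℕ) :
    ∀ w ∈ P, (nn h ^ j) w ∈ P := by
  induction j with
  | zero => intro w hw; simpa using hw
  | succ j ih =>
    intro w hw
    rw [pow_succ, Module.End.mul_apply]
    apply ih
    rw [nn_apply]
    exact P.sub_mem (hP w hw) hw

/-- the radical of an invariant subspace is invariant -/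
theorem rad_inv {B : LinearMap.BilinForm F V} {h : V ≃ₗ[F] V} (hB : Alt B) (hh : Iso B h)
    {P : Submodule F V} (hP : ∀ w ∈ P, h w ∈ P) {r : V} (hr : r ∈ P) (hrad : ∀ w ∈ P, B r w = 0) (j : ℕ) :
    ∀ w ∈ P, B w ((nn h ^ j) r) = 0 := by
  have h1 : ∀ j : ℕ, (nn h ^ j) r ∈ P ∧ ∀ w ∈ P, B ((nn h ^ j) r) w = 0 := by
    intro j
    induction j with
    | zero => exact ⟨by simpa using hr, by simpa using hrad⟩
    | succ j ih =>
      rw [pow_succ', Module.End.mul_apply, nn_apply]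
      refine ⟨P.sub_mem (hP _ ih.1) ih.1, fun w hw => ?_⟩
      rw [map_sub, LinearMap.sub_apply, ih.2 w hw, hh.adj, ih.2 _ (inv_mem_of_mem hP w hw), sub_zero]
  intro w hw
  exact hB.zero ((h1 j).2 w hw)

theorem nd_single {B : LinearMap.BilinForm F V} {h : V ≃ₗ[F] V} (hB : Alt B) (hh : Iso B h) {m : ℕ}
    (hN : nn h ^ (m + 1) = 0) {x : V} (hx : B x ((nn h ^ m) x) ≠ 0) : Nd B (M h x) := by
  intro r hr hrad
  have h0 := hr
  rw [M_eq] at h0
  obtain ⟨p, rfl⟩ := h0
  change aeval (nn h) p x = 0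
  have h1 := rad_inv hB hh (fun w hw => M_inv hw) hr hrad
  obtain ⟨q, hq⟩ := single_free hN hx p (fun j => h1 j x (self_mem_M _ _))
  rw [hq, aeval_X_pow_mul, hN, LinearMap.zero_apply]

theorem nd_pair {B : LinearMap.BilinForm F V} {h : V ≃ₗ[F] V} (hB : Alt B) (hh : Iso B h) {m : ℕ}
    (hN : nn h ^ (m + 1) = 0) {x y : V} (hx : B x ((nn h ^ m) x) = 0) (hy : B y ((nn h ^ m) y) = 0)
    (hxy : B x ((nn h ^ m) y) ≠ 0) (hyx : B y ((nn h ^ m) x) ≠ 0) : Nd B (M h x ⊔ M h y) := by
  intro r hr hrad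
  have hinv : ∀ w ∈ M h x ⊔ M h y, h w ∈ M h x ⊔ M h y := by
    intro w hw
    obtain ⟨a, ha, b, hb, rfl⟩ := Submodule.mem_sup.1 hw
    rw [map_add]
    exact Submodule.add_mem_sup (M_inv ha) (M_inv hb)
  obtain ⟨a, ha, b, hb, rfl⟩ := Submodule.mem_sup.1 hr
  rw [M_eq] at ha hb
  obtain ⟨p, rfl⟩ := ha
  obtain ⟨s, rfl⟩ := hb
  change aeval (nn h) p x + aeval (nn h) s y = 0
  have h1 := rad_inv hB hh hinv hr hrad
  obtain ⟨⟨q, hq⟩, ⟨q', hq'⟩⟩ := pair_free hN hx hy hxy hyx p s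
    (fun j => h1 j x (Submodule.mem_sup_left (self_mem_M _ _)))
    (fun j => h1 j y (Submodule.mem_sup_right (self_mem_M _ _)))
  rw [hq, hq', aeval_X_pow_mul, aeval_X_pow_mul, hN, LinearMap.zero_apply, LinearMap.zero_apply, add_zero]

/-- dimension count -/
theorem finrank_pair {B : LinearMap.BilinForm F V} {h : V ≃ₗ[F] V} {m : ℕ}
    (hN : nn h ^ (m + 1) = 0) {x y : V} (hx : B x ((nn h ^ m) x) = 0) (hy : B y ((nn h ^ m) y) = 0)
    (hxy : B x ((nn h ^ m) y) ≠ 0) (hyx : B y ((nn h ^ m) x) ≠ 0) (htop : M h x ⊔ M h y = ⊤) :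
    Module.finrank F V = 2 * (m + 1) := by
  let φ : (degreeLT F (m + 1)) × (degreeLT F (m + 1)) →ₗ[F] V :=
    (((LinearMap.applyₗ x : Module.End F V →ₗ[F] V) ∘ₗ
      (aeval (nn h) : F[X] →ₐ[F] Module.End F V).toLinearMap) ∘ₗ (degreeLT F (m + 1)).subtype).coprod
    (((LinearMap.applyₗ y : Module.End F V →ₗ[F] V) ∘ₗ
      (aeval (nn h) : F[X] →ₐ[F] Module.End F V).toLinearMap) ∘ₗ (degreeLT F (m + 1)).subtype)
  have hφ : ∀ p s, φ (p, s) = aeval (nn h) (p : F[X]) x + aeval (nn h) (s : F[X]) y := fun p s => rfl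
  have hinj : Function.Injective φ := by
    rw [← LinearMap.ker_eq_bot, LinearMap.ker_eq_bot']
    rintro ⟨p, s⟩ h0
    rw [hφ] at h0
    obtain ⟨h1, h2⟩ := pair_free hN hx hy hxy hyx p s (fun j => by rw [h0, map_zero, map_zero])
      (fun j => by rw [h0, map_zero, map_zero])
    have key : ∀ q : degreeLT F (m + 1), X ^ (m + 1) ∣ (q : F[X]) → q = 0 := by
      intro q hq
      apply Subtype.ext
      by_contra hne
      have h3 := Polynomial.degree_le_of_dvd hq hne
      have h4 := mem_degreeLT.1 q.2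
      rw [degree_X_pow] at h3
      exact absurd (lt_of_le_of_lt h3 h4) (lt_irrefl _)
    rw [key p h1, key s h2]
    rfl
  have hred : ∀ (p : F[X]) (z : V), ∃ q : degreeLT F (m + 1), aeval (nn h) (q : F[X]) z = aeval (nn h) p z := by
    intro p z
    refine ⟨⟨p %ₘ (X ^ (m + 1)), ?_⟩, ?_⟩
    · rw [mem_degreeLT]
      have := degree_modByMonic_lt p (monic_X_pow (R := F) (m + 1))
      rwa [degree_X_pow] at this
    · have h1 := modByMonic_add_div p (X ^ (m + 1) : F[X])
      have h2 : aeval (nn h) p z = aeval (nn h) (p %ₘ (X ^ (m + 1)) + X ^ (m + 1) * (p /ₘ (X ^ (m + 1)))) z := by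
        rw [h1]
      rw [h2, map_add, LinearMap.add_apply, aeval_X_pow_mul, hN, LinearMap.zero_apply, add_zero]
  have hsur : Function.Surjective φ := by
    intro v
    obtain ⟨a, ha, b, hb, rfl⟩ := mem_sup_top htop v
    rw [M_eq] at ha hb
    obtain ⟨p, rfl⟩ := ha
    obtain ⟨s, rfl⟩ := hb
    obtain ⟨p', hp'⟩ := hred p x
    obtain ⟨s', hs'⟩ := hred s y
    exact ⟨(p', s'), by rw [hφ, hp', hs']; rfl⟩
  have h1 := (LinearEquiv.ofBijective φ ⟨hinj, hsur⟩).finrank_eq
  have h2 : Module.finrank F (degreeLT F (m + 1)) = m + 1 := by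
    rw [(degreeLTEquiv F (m + 1)).finrank_eq, Module.finrank_fin_fun]
  have : FiniteDimensional F (degreeLT F (m + 1)) := Module.Finite.equiv (degreeLTEquiv F (m + 1)).symm
  rw [← h1, Module.finrank_prod, h2]
  ring

end Unip

end Cfsg.Agent.H144
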