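import Mathlib
import Cfsg.Agent.H144.Unip

/-!
# Double Jordan blocks of odd size are inverted by a complex structure

`h` unipotent, `N = h - 1`, `N ^ (2 a + 1) = 0`, `V = F[h] x + F[h] y`, `B(v, N ^ (2 a) v) = 0` for all `v` and
`B(x, N ^ (2 a) y) ≠ 0`. Over a field of characteristic not two there is an isometry `J` with `J² = -1`,
`J h J⁻¹ = h⁻¹`.
-/

set_option autoImplicit false
open Polynomial

noncomputable section

namespace Cfsg.Agent.H144

variable {F V : Type*} [Field F] [AddCommGroup V] [Module F V]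

/-- `h + h⁻¹ - 2` -/
def ss (h : V ≃ₗ[F] V) : Module.End F V := cc h - algebraMap F (Module.End F V) 2

theorem ss_eq (h : V ≃ₗ[F] V) : ss h = aeval (cc h) (X - C 2 : F[X]) := by
  rw [map_sub, aeval_X, aeval_C]; rfl

theorem ss_pow (h : V ≃ₗ[F] V) (j : ℕ) : ss h ^ j = aeval (cc h) ((X - C 2 : F[X]) ^ j) := by
  rw [map_pow, ss_eq]

theorem ss_apply (h : V ≃ₗ[F] V) (v : V) : ss h v = cc h v - (2 : F) • v := rfl

theorem isUnit_coe (h : V ≃ₗ[F] V) : IsUnit (h : Module.End F V) :=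
  ⟨⟨(h : Module.End F V), ((h⁻¹ : V ≃ₗ[F] V) : Module.End F V),
    by ext v; exact app_inv h v, by ext v; exact inv_app h v⟩, rfl⟩

theorem h_mul_ss (h : V ≃ₗ[F] V) : (h : Module.End F V) * ss h = nn h ^ 2 := by
  ext v
  rw [pow_two, Module.End.mul_apply, Module.End.mul_apply, nn_apply, nn_apply]
  change h (cc h v - (2 : F) • v) = _
  rw [cc_apply, map_sub, map_add, map_smul, app_inv, map_sub]
  module

theorem comm_h_cc (h : V ≃ₗ[F] V) : Commute (h : Module.End F V) (cc h) := by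
  ext v
  exact cc_comm h v

theorem comm_h_ss (h : V ≃ₗ[F] V) : Commute (h : Module.End F V) (ss h) := by
  ext v
  change h (cc h v - (2 : F) • v) = cc h (h v) - (2 : F) • h v
  rw [map_sub, cc_comm, map_smul]

theorem comm_nn_ss (h : V ≃ₗ[F] V) : Commute (nn h) (ss h) := by
  unfold nn
  exact (comm_h_ss h).sub_left (Commute.one_left _)

theorem comm_h_nn (h : V ≃ₗ[F] V) : Commute (h : Module.End F V) (nn h) := by
  unfold nn
  exact (Commute.refl _).sub_right (Commute.one_right _)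

theorem nn_pow_two_mul (h : V ≃ₗ[F] V) (j : ℕ) :
    nn h ^ (2 * j) = (h : Module.End F V) ^ j * ss h ^ j := by
  rw [pow_mul, ← h_mul_ss, (comm_h_ss h).mul_pow]

theorem ss_pow_zero {h : V ≃ₗ[F] V} {j : ℕ} (hN : nn h ^ (2 * j) = 0) : ss h ^ j = 0 := by
  rw [nn_pow_two_mul] at hN
  exact ((isUnit_coe h).pow j).mul_right_eq_zero.1 hN

theorem nn_ss_pow_zero {h : V ≃ₗ[F] V} {j : ℕ} (hN : nn h ^ (2 * j + 1) = 0) : nn h * ss h ^ j = 0 := by
  rw [pow_succ', nn_pow_two_mul, ← mul_assoc, ← ((comm_h_nn h).pow_left j).eq, mul_assoc] at hN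
  exact ((isUnit_coe h).pow j).mul_right_eq_zero.1 hN

theorem ss_pow_eq {h : V ≃ₗ[F] V} {j : ℕ} (hN : nn h ^ (2 * j + 1) = 0) : nn h ^ (2 * j) = ss h ^ j := by
  have h1 := nn_ss_pow_zero hN
  have h2 : (h : Module.End F V) * ss h ^ j = ss h ^ j := by
    have h3 : (h : Module.End F V) = nn h + 1 := by unfold nn; abel
    rw [h3, add_mul, h1, one_mul, zero_add]
  have h4 : ∀ i : ℕ, (h : Module.End F V) ^ i * ss h ^ j = ss h ^ j := by
    intro i
    induction i with
    | zero => simp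
    | succ i ih => rw [pow_succ, mul_assoc, h2, ih]
  rw [nn_pow_two_mul, h4]

theorem ss_app_pow (h : V ≃ₗ[F] V) (j : ℕ) (v : V) : ss h ((ss h ^ j) v) = (ss h ^ (j + 1)) v := by
  rw [pow_succ', Module.End.mul_apply]

section Form

variable {B : LinearMap.BilinForm F V} {h : V ≃ₗ[F] V}

theorem ss_adj (hh : Iso B h) (j : ℕ) (v w : V) : B ((ss h ^ j) v) w = B v ((ss h ^ j) w) := by
  rw [ss_pow]
  exact adj_aeval (cc_adj hh) _ v w

theorem nn_nn (hh : Iso B h) (v w : V) : B (nn h v) (nn h w) = - B v (ss h w) := by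
  rw [nn_apply, nn_apply, sub_form hh, ss_apply, map_sub, map_smul, smul_eq_mul]
  ring

theorem nn_ss_app (h : V ≃ₗ[F] V) (j : ℕ) (v : V) : nn h ((ss h ^ j) v) = (ss h ^ j) (nn h v) := by
  have := ((comm_nn_ss h).pow_right j).eq
  exact LinearMap.congr_fun this v

theorem exists_isotropic_step (h2 : (2 : F) ≠ 0) (hB : Alt B) (hh : Iso B h) {a : ℕ}
    (hN : nn h ^ (2 * a + 1) = 0) {x y : V} (hxy : B x ((ss h ^ a) y) ≠ 0) (i : ℕ) (hi : i ≤ a) :
    ∃ x', (∀ j, a - i ≤ j → B x' (nn h ((ss h ^ j) x')) = 0) ∧ B x' ((ss h ^ a) y) ≠ 0 := by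
  have hz1 : ∀ j v, a ≤ j → nn h ((ss h ^ j) v) = 0 := by
    intro j v hj
    obtain ⟨k, rfl⟩ := Nat.exists_eq_add_of_le hj
    rw [pow_add, Module.End.mul_apply]
    exact LinearMap.congr_fun (nn_ss_pow_zero hN) _
  have hz2 : ∀ j v, a < j → (ss h ^ j) v = 0 := by
    intro j v hj
    have h3 : nn h ^ (2 * j) = 0 := by
      obtain ⟨k, hk⟩ : ∃ k, 2 * j = (2 * a + 1) + k := ⟨2 * j - (2 * a + 1), by omega⟩
      rw [hk, pow_add, hN, zero_mul]
    rw [ss_pow_zero h3, LinearMap.zero_apply]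
  induction i with
  | zero =>
    refine ⟨x, fun j hj => ?_, hxy⟩
    rw [hz1 j x (by omega), map_zero]
  | succ i ih =>
    obtain ⟨x₁, hx₁, hx₂⟩ := ih (by omega)
    set b := B x₁ ((ss h ^ a) y) with hb
    set τ := - (B x₁ (nn h ((ss h ^ (a - (i + 1))) x₁))) / (2 * b) with hτ
    set u := (ss h ^ i) y with hu
    have hthird : ∀ j, a - (i + 1) ≤ j → B (nn h u) (nn h ((ss h ^ j) (nn h u))) = 0 := by
      intro j hj
      rw [nn_nn hh, hu, ss_adj hh, ss_app_pow, pow_pow_app, ← nn_ss_app, pow_pow_app,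
        hz1 _ _ (by omega), map_zero, neg_zero]
    have hcross : ∀ j, B x₁ (nn h ((ss h ^ j) (nn h u))) + B (nn h u) (nn h ((ss h ^ j) x₁)) =
        B x₁ (h ((ss h ^ (j + i + 1)) y)) + B x₁ ((ss h ^ (j + i + 1)) y) := by
      intro j
      congr 1
      · rw [← nn_ss_app, ← Module.End.mul_apply (nn h) (nn h), ← pow_two, ← h_mul_ss, Module.End.mul_apply, hu,
          pow_pow_app, ss_app_pow]
        rfl
      · rw [hB.neg, nn_nn hh, neg_neg, ss_adj hh, hu, ss_app_pow, pow_pow_app, ← add_assoc]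
    have hq : ∀ j, a - (i + 1) ≤ j → B (x₁ + τ • nn h u) (nn h ((ss h ^ j) (x₁ + τ • nn h u))) =
        B x₁ (nn h ((ss h ^ j) x₁)) + τ * (B x₁ (h ((ss h ^ (j + i + 1)) y)) + B x₁ ((ss h ^ (j + i + 1)) y)) := by
      intro j hj
      rw [← hcross j]
      simp only [map_add, map_smul, LinearMap.add_apply, LinearMap.smul_apply, smul_eq_mul, hthird j hj]
      ring
    refine ⟨x₁ + τ • nn h u, fun j hj => ?_, ?_⟩
    · rw [hq j hj]
      rcases Nat.lt_or_ge (a - (i + 1)) j with hlt | hge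
      · rw [hx₁ j (by omega), hz2 (j + i + 1) y (by omega)]
        simp
      · have hj' : j = a - (i + 1) := by omega
        have h3 : j + i + 1 = a := by omega
        have h4 : h ((ss h ^ a) y) = (ss h ^ a) y := by
          have := hz1 a y le_rfl
          rw [nn_apply, sub_eq_zero] at this
          exact this
        rw [h3, h4, ← hb, hτ, hj']
        field_simp
        ring
    · rw [map_add, LinearMap.add_apply, map_smul, LinearMap.smul_apply]
      have h3 : B (nn h u) ((ss h ^ a) y) = 0 := by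
        rw [← ss_adj hh, ← nn_ss_app, hz1 a u le_rfl, map_zero, LinearMap.zero_apply]
      rw [h3, smul_zero, add_zero]
      exact hx₂

theorem exists_isotropic (h2 : (2 : F) ≠ 0) (hB : Alt B) (hh : Iso B h) {a : ℕ}
    (hN : nn h ^ (2 * a + 1) = 0) {x y : V} (hxy : B x ((ss h ^ a) y) ≠ 0) :
    ∃ x', Orth B (M h x') (M h x') ∧ B x' ((ss h ^ a) y) ≠ 0 := by
  obtain ⟨x', h3, h4⟩ := exists_isotropic_step h2 hB hh hN hxy a le_rfl
  refine ⟨x', ?_, h4⟩
  have h5 : ∀ p : F[X], B x' (nn h (aeval (ss h) p x')) = 0 := by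
    intro p
    induction p using Polynomial.induction_on' with
    | add p q hp hq => simp only [map_add, LinearMap.add_apply, hp, hq, add_zero]
    | monomial k a =>
      simp only [aeval_monomial, Module.algebraMap_end_eq_smul_id, Module.End.mul_apply, LinearMap.smul_apply,
        LinearMap.id_apply, map_smul]
      rw [h3 k (by omega), smul_zero]
  have h6 : ∀ f : F[X], B x' (h (aeval (cc h) f x')) = 0 := by
    intro f
    have e1 : aeval (cc h) f = aeval (ss h) (f.comp (X + C 2)) := by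
      rw [aeval_comp]
      congr 2
      rw [map_add, aeval_X, aeval_C]
      unfold ss
      abel
    have e2 := h5 (f.comp (X + C 2))
    rw [← e1, nn_apply, map_sub, self_aeval hB hh, sub_zero] at e2
    exact e2
  apply isotropic_sup hB (K_isotropic hB hh _) (K_isotropic hB hh _)
  apply K_orth_of hh
  intro f
  rw [← g_aeval]
  exact h6 f

end Form

section Jc

variable [FiniteDimensional F V] {B : LinearMap.BilinForm F V} {h : V ≃ₗ[F] V}

theorem M_eq_h (h : V ≃ₗ[F] V) (v : V) : M h v = K (h : Module.End F V) v := by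
  apply le_antisymm
  · have h1 : ∀ w ∈ K (h : Module.End F V) v, h w ∈ K (h : Module.End F V) v := fun w hw => K_inv hw
    exact M_le h1 (inv_mem_of_mem h1) (self_mem_K _ _)
  · exact K_le (fun w hw => M_inv hw) (self_mem_M h v)

theorem exists_J (hB : Alt B) (hN : Nond B) (hh : Iso B h) {x y : V} (hx : Orth B (M h x) (M h x))
    (hy : Orth B (M h y) (M h y)) (hxy : M h x ⊔ M h y = ⊤) :
    ∃ J : V ≃ₗ[F] V, Iso B J ∧ (∀ v, J (J v) = -v) ∧ ∀ v, J (h v) = h⁻¹ (J v) := by
  let H : Module.End F V := (h : Module.End F V)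
  let Hi : Module.End F V := ((h⁻¹ : V ≃ₗ[F] V) : Module.End F V)
  let ev : Module.End F V → V → (F[X] →ₗ[F] V) := fun c v =>
    (LinearMap.applyₗ v : Module.End F V →ₗ[F] V) ∘ₗ (aeval c : F[X] →ₐ[F] Module.End F V).toLinearMap
  let Φ : F[X] × F[X] →ₗ[F] V := (ev H x).coprod (ev H y)
  let Ψ : F[X] × F[X] →ₗ[F] V := (ev Hi y).coprod (-(ev Hi x))
  have hΦ : ∀ f r : F[X], Φ (f, r) = aeval H f x + aeval H r y := fun f r => rfl
  have hΨ : ∀ f r : F[X], Ψ (f, r) = aeval Hi f y + -(aeval Hi r x) := fun f r => rfl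
  have hmx : ∀ f : F[X], aeval H f x ∈ M h x := fun f => by rw [M_eq_h]; exact ⟨f, rfl⟩
  have hmy : ∀ f : F[X], aeval H f y ∈ M h y := fun f => by rw [M_eq_h]; exact ⟨f, rfl⟩
  have hmx' : ∀ f : F[X], aeval Hi f x ∈ M h x := fun f => aeval_mem (fun w hw => M_inv' hw) f _ (self_mem_M _ _)
  have hmy' : ∀ f : F[X], aeval Hi f y ∈ M h y := fun f => aeval_mem (fun w hw => M_inv' hw) f _ (self_mem_M _ _)
  have hsur : Function.Surjective Φ := by
    intro v
    obtain ⟨p, hp, q, hq, rfl⟩ := mem_sup_top hxy v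
    rw [M_eq_h] at hp hq
    obtain ⟨f, rfl⟩ := hp
    obtain ⟨r, rfl⟩ := hq
    exact ⟨(f, r), rfl⟩
  -- adjoints
  have hadj : ∀ (f : F[X]) (v w : V), B v (aeval H f w) = B (aeval Hi f v) w := fun f v w =>
    aeval_adj hh f v w
  have hadj' : ∀ (f : F[X]) (v w : V), B v (aeval Hi f w) = B (aeval H f v) w := by
    intro f v w
    have := aeval_adj hh.inv f v w
    rwa [inv_inv] at this
  have hcomm : ∀ (f r : F[X]) (v : V), aeval H f (aeval Hi r v) = aeval Hi r (aeval H f v) := by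
    intro f r v
    have h1 : ∀ w, Hi (aeval H f w) = aeval H f (Hi w) :=
      comm_aeval (c := H) (g := Hi) (fun w => by
        change h⁻¹ (h w) = h (h⁻¹ w)
        rw [inv_app, app_inv]) f
    exact comm_aeval (c := Hi) (g := aeval H f) (fun w => (h1 w).symm) r v
  have hk1 : ∀ f : F[X], aeval H f x = 0 → aeval Hi f y = 0 := by
    intro f hf
    apply eq_zero_of_orth hN hxy _ (hy _ (hmy' f))
    intro w hw
    rw [M_eq_h] at hw
    obtain ⟨a, rfl⟩ := hw
    apply hB.zero
    change B (aeval H a x) (aeval Hi f y) = 0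
    rw [hadj', aeval_comm_app, hf, map_zero, map_zero, LinearMap.zero_apply]
  have hk2 : ∀ f : F[X], aeval H f y = 0 → aeval Hi f x = 0 := by
    intro f hf
    apply eq_zero_of_orth hN hxy (hx _ (hmx' f))
    intro w hw
    rw [M_eq_h] at hw
    obtain ⟨a, rfl⟩ := hw
    apply hB.zero
    change B (aeval H a y) (aeval Hi f x) = 0
    rw [hadj', aeval_comm_app, hf, map_zero, map_zero, LinearMap.zero_apply]
  have hker : ∀ u, Φ u = 0 → Ψ u = 0 := by
    rintro ⟨f, r⟩ h0
    rw [hΦ] at h0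
    have h1 : aeval H f x = 0 := by
      apply eq_zero_of_orth hN hxy (hx _ (hmx f))
      intro w hw
      have h2 : aeval H f x = -(aeval H r y) := eq_neg_of_add_eq_zero_left h0
      rw [h2, map_neg, LinearMap.neg_apply, hy _ (hmy r) w hw, neg_zero]
    have h2 : aeval H r y = 0 := by rw [h1, zero_add] at h0; exact h0
    rw [hΨ, hk1 f h1, hk2 r h2, neg_zero, add_zero]
  obtain ⟨s, hs⟩ := LinearMap.exists_rightInverse_of_surjective Φ (LinearMap.range_eq_top.2 hsur)
  let J₀ : V →ₗ[F] V := Ψ ∘ₗ s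
  have hJΦ : ∀ u, J₀ (Φ u) = Ψ u := by
    intro u
    change Ψ (s (Φ u)) = Ψ u
    rw [← sub_eq_zero, ← map_sub]
    apply hker
    have := LinearMap.congr_fun hs (Φ u)
    rw [LinearMap.comp_apply, LinearMap.id_apply] at this
    rw [map_sub, this, sub_self]
  have hJh : ∀ v, J₀ (h v) = h⁻¹ (J₀ v) := by
    intro v
    obtain ⟨⟨f, r⟩, rfl⟩ := hsur v
    have h1 : h (Φ (f, r)) = Φ (X * f, X * r) := by
      rw [hΦ, hΦ, map_add, aeval_mul_app, aeval_mul_app, aeval_X]
      rfl
    have h2 : h⁻¹ (Ψ (f, r)) = Ψ (X * f, X * r) := by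
      rw [hΨ, hΨ, map_add, map_neg, aeval_mul_app, aeval_mul_app, aeval_X]
      rfl
    rw [h1, hJΦ, hJΦ, h2]
  have hJx : J₀ x = y := by
    have h1 := hJΦ (1, 0)
    rw [hΦ, hΨ] at h1
    simpa using h1
  have hJy : J₀ y = -x := by
    have h1 := hJΦ (0, 1)
    rw [hΦ, hΨ] at h1
    simpa using h1
  have hJhi : ∀ v, J₀ (h⁻¹ v) = h (J₀ v) := by
    intro v
    have h1 := hJh (h⁻¹ v)
    rw [app_inv] at h1
    rw [h1, app_inv]
  have hJf : ∀ (f : F[X]) v, J₀ (aeval H f v) = aeval Hi f (J₀ v) := by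
    intro f v
    induction f using Polynomial.induction_on' generalizing v with
    | add p q hp hq => simp only [map_add, LinearMap.add_apply, hp, hq]
    | monomial k a =>
      have hk : ∀ k : ℕ, ∀ v, J₀ ((H ^ k) v) = (Hi ^ k) (J₀ v) := by
        intro k
        induction k with
        | zero => intro v; simp
        | succ k ih =>
          intro v
          rw [pow_succ, Module.End.mul_apply, ih, pow_succ, Module.End.mul_apply]
          congr 1
          exact hJh v
      simp only [aeval_monomial, Module.algebraMap_end_eq_smul_id, Module.End.mul_apply, LinearMap.smul_apply,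
        LinearMap.id_apply, hk, map_smul]
  have hJfi : ∀ (f : F[X]) v, J₀ (aeval Hi f v) = aeval H f (J₀ v) := by
    intro f v
    induction f using Polynomial.induction_on' generalizing v with
    | add p q hp hq => simp only [map_add, LinearMap.add_apply, hp, hq]
    | monomial k a =>
      have hk : ∀ k : ℕ, ∀ v, J₀ ((Hi ^ k) v) = (H ^ k) (J₀ v) := by
        intro k
        induction k with
        | zero => intro v; simp
        | succ k ih =>
          intro v
          rw [pow_succ, Module.End.mul_apply, ih, pow_succ, Module.End.mul_apply]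
          congr 1
          exact hJhi v
      simp only [aeval_monomial, Module.algebraMap_end_eq_smul_id, Module.End.mul_apply, LinearMap.smul_apply,
        LinearMap.id_apply, hk, map_smul]
  have hJJ : ∀ v, J₀ (J₀ v) = -v := by
    intro v
    obtain ⟨⟨f, r⟩, rfl⟩ := hsur v
    rw [hJΦ, hΨ, hΦ, map_add, map_neg, hJfi, hJfi, hJx, hJy, map_neg]
    abel
  let J : V ≃ₗ[F] V := LinearEquiv.ofLinearMap J₀ (-J₀)
    (by ext v; change J₀ (-(J₀ v)) = v; rw [map_neg, hJJ, neg_neg])
    (by ext v; change -(J₀ (J₀ v)) = v; rw [hJJ, neg_neg])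
  refine ⟨J, ?_, hJJ, hJh⟩
  intro v w
  change B (J₀ v) (J₀ w) = B v w
  obtain ⟨⟨f, r⟩, rfl⟩ := hsur v
  obtain ⟨⟨f', r'⟩, rfl⟩ := hsur w
  rw [hJΦ, hJΦ, hΨ, hΨ, hΦ, hΦ]
  simp only [map_add, LinearMap.add_apply, map_neg, LinearMap.neg_apply]
  rw [hx _ (hmx f) _ (hmx f'), hy _ (hmy r) _ (hmy r'), hy _ (hmy' f) _ (hmy' f'), hx _ (hmx' r) _ (hmx' r')]
  have e1 : B (aeval Hi f y) (aeval Hi r' x) = - B (aeval H f x) (aeval H r' y) := by
    rw [hB.neg, hadj, hadj', hcomm]
  have e2 : B (aeval Hi r x) (aeval Hi f' y) = - B (aeval H r y) (aeval H f' x) := by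
    rw [hB.neg (aeval H r y), neg_neg, hadj, hadj', hcomm]
  rw [e1, e2]
  ring

end Jc

end Cfsg.Agent.H144
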