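import Mathlib
import Cfsg.Agent.H144.Jcon

/-!
# Orthogonally indecomposable isometries of a symplectic space
-/

set_option autoImplicit false
open Polynomial

noncomputable section

namespace Cfsg.Agent.H144

variable {F V : Type*} [Field F] [AddCommGroup V] [Module F V]

/-- `g P ≤ P` -/
def Inv (g : V ≃ₗ[F] V) (P : Submodule F V) : Prop := ∀ v ∈ P, g v ∈ P

/-- orthogonally indecomposable -/
def Indec (B : LinearMap.BilinForm F V) (g : V ≃ₗ[F] V) : Prop :=
  ∀ P : Submodule F V, Inv g P → Nd B P → P = ⊥ ∨ P = ⊤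

theorem val_lemma {h : V ≃ₗ[F] V} {m : ℕ} (hN : nn h ^ (m + 1) = 0) {ε : ℕ} (hε : Odd (m + ε)) {x : V}
    (hx : (nn h ^ m) x ≠ 0) (p : F[X]) (hp : aeval (ss h) p ((nn h ^ ε) x) = (nn h ^ m) x) : False := by
  have hp0 : p ≠ 0 := by
    rintro rfl
    rw [map_zero, LinearMap.zero_apply] at hp
    exact hx hp.symm
  obtain ⟨q, hpq, hq⟩ := (FiniteMultiplicity.of_prime_left (prime_X (R := F)) hp0).exists_eq_pow_mul_and_not_dvd
  rw [X_dvd_iff] at hq
  set i := multiplicity X p
  have hcomm : ∀ (j k : ℕ) (v : V), (nn h ^ j) ((ss h ^ k) v) = (ss h ^ k) ((nn h ^ j) v) := by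
    intro j k v
    exact LinearMap.congr_fun ((comm_nn_ss h).pow_pow j k).eq v
  have hcommp : ∀ (j : ℕ) (r : F[X]) (v : V), (nn h ^ j) (aeval (ss h) r v) = aeval (ss h) r ((nn h ^ j) v) := by
    intro j r v
    exact comm_aeval (c := ss h) (g := nn h ^ j) (fun w => by
      have := hcomm j 1 w
      rwa [pow_one] at this) r v
  have hH : ∀ (k : ℕ) (v : V), ((h : Module.End F V) ^ k) ((ss h ^ k) v) = (nn h ^ (2 * k)) v := by
    intro k v
    rw [nn_pow_two_mul, Module.End.mul_apply]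
  have hHinj : ∀ (k : ℕ) (v : V), ((h : Module.End F V) ^ k) v = 0 → v = 0 := by
    intro k v hv
    obtain ⟨u, hu⟩ := (isUnit_coe h).pow k
    have : (u⁻¹ : (Module.End F V)ˣ).val (u.val v) = v := by
      rw [← Module.End.mul_apply, Units.inv_mul, Module.End.one_apply]
    rw [← hu] at hv
    rw [← this, hv, map_zero]
  have hcH : ∀ (j k : ℕ) (v : V), ((h : Module.End F V) ^ k) ((nn h ^ j) v) = (nn h ^ j) (((h : Module.End F V) ^ k) v) := by
    intro j k v
    exact LinearMap.congr_fun ((comm_h_nn h).pow_pow k j).eq v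
  have hzero : ∀ (j : ℕ) (v : V), m + 1 ≤ j → (nn h ^ j) v = 0 := by
    intro j v hj
    obtain ⟨k, rfl⟩ := Nat.exists_eq_add_of_le hj
    rw [pow_add, hN, zero_mul, LinearMap.zero_apply]
  have hp' : (ss h ^ i) (aeval (ss h) q ((nn h ^ ε) x)) = (nn h ^ m) x := by
    rw [hpq, aeval_mul_app, map_pow, aeval_X] at hp
    exact hp
  rcases Nat.lt_or_ge m (2 * i + ε) with hlt | hge
  · apply hx
    rw [← hp']
    apply hHinj i
    rw [hH, ← hcommp, pow_pow_app, hzero _ _ (by omega)]
  · have hne : 2 * i + ε ≠ m := by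
      rintro rfl
      rw [Nat.odd_iff] at hε
      omega
    set d := m - (2 * i + ε) with hd
    have h1 : (nn h ^ d) ((ss h ^ i) (aeval (ss h) q ((nn h ^ ε) x))) = 0 := by
      rw [hp', pow_pow_app, hzero _ _ (by omega)]
    have h2 : ((h : Module.End F V) ^ i) ((nn h ^ d) ((ss h ^ i) (aeval (ss h) q ((nn h ^ ε) x)))) = 0 := by
      rw [h1, map_zero]
    rw [hcH, hH, ← hcommp, pow_pow_app, pow_pow_app, show d + 2 * i + ε = m by omega] at h2
    have h3 : (nn h ^ m) (aeval (ss h) q x) = q.coeff 0 • (nn h ^ m) x := by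
      obtain ⟨r, hr⟩ : ∃ r : F[X], q = X * r + C (q.coeff 0) := ⟨q.divX, by rw [mul_comm]; exact (divX_mul_X_add q).symm⟩
      have h4 : (nn h ^ m) (ss h (aeval (ss h) r x)) = 0 := by
        apply hHinj 1
        have h5 := hH 1 (aeval (ss h) r x)
        rw [pow_one (ss h)] at h5
        rw [hcH, h5, pow_pow_app, hzero _ _ (by omega)]
      conv_lhs => rw [hr]
      simp only [map_add, map_mul, aeval_X, aeval_C, LinearMap.add_apply, Module.End.mul_apply,
        Module.algebraMap_end_apply, map_smul, h4, zero_add]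
    rw [h3] at h2
    exact (smul_eq_zero.1 h2).elim hq hx

theorem aeval_cc_eq (h : V ≃ₗ[F] V) (f : F[X]) : aeval (cc h) f = aeval (ss h) (f.comp (X + C 2)) := by
  rw [aeval_comp]
  congr 2
  rw [map_add, aeval_X, aeval_C]
  unfold ss
  abel

variable [FiniteDimensional F V]

theorem exists_rep {B : LinearMap.BilinForm F V} (hB : Alt B) (hN : Nond B) (φ : V →ₗ[F] F) :
    ∃ y, ∀ v, B v y = φ v := by
  have hinj : Function.Injective B.flip := by
    rw [← LinearMap.ker_eq_bot, LinearMap.ker_eq_bot']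
    intro y hy
    apply hN
    intro w
    apply hB.zero
    exact LinearMap.congr_fun hy w
  have hfin : Module.finrank F V = Module.finrank F (V →ₗ[F] F) := (Subspace.dual_finrank_eq (K := F) (V := V)).symm
  obtain ⟨y, hy⟩ := (LinearMap.injective_iff_surjective_of_finrank_eq_finrank hfin).1 hinj φ
  exact ⟨y, fun v => LinearMap.congr_fun hy v⟩

theorem exists_sep {B : LinearMap.BilinForm F V} (hB : Alt B) (hN : Nond B) {P : Submodule F V} {v : V}
    (hv : v ∉ P) : ∃ y, (∀ w ∈ P, B w y = 0) ∧ B v y ≠ 0 := by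
  obtain ⟨φ, h1, h2⟩ := Submodule.exists_le_ker_of_notMem hv
  obtain ⟨y, hy⟩ := exists_rep hB hN φ
  exact ⟨y, fun w hw => by rw [hy]; exact h2 hw, by rw [hy]; exact h1⟩

theorem M_sup_inv (h : V ≃ₗ[F] V) (x y : V) : Inv h (M h x ⊔ M h y) := by
  intro w hw
  obtain ⟨a, ha, b, hb, rfl⟩ := Submodule.mem_sup.1 hw
  rw [map_add]
  exact Submodule.add_mem_sup (M_inv ha) (M_inv hb)

/-- the conclusion for the exceptional indecomposable pieces -/
def Exc (B : LinearMap.BilinForm F V) (h : V ≃ₗ[F] V) : Prop :=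
  C1 B h ∧ ∃ a : ℕ, Module.finrank F V = 2 * (2 * a + 1) ∧ (a = 0 → ∀ v, h v = v) ∧
    ∃ J : V ≃ₗ[F] V, Iso B J ∧ (∀ v, J (J v) = -v) ∧ ∀ v, J (h v) = h⁻¹ (J v)

theorem indec_unip {B : LinearMap.BilinForm F V} (hB : Alt B) (hN : Nond B) {h : V ≃ₗ[F] V} (hh : Iso B h)
    (hI : Indec B h) {m : ℕ} (hm : nn h ^ (m + 1) = 0) (hm' : nn h ^ m ≠ 0) :
    (∃ v, M h v = ⊤) ∨ (C1 B h ∧ (2 : F) = 0) ∨ Exc B h := by
  by_cases hcase : ∃ v, B v ((nn h ^ m) v) ≠ 0
  · obtain ⟨v, hv⟩ := hcase
    left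
    refine ⟨v, (hI _ (fun w hw => M_inv hw) (nd_single hB hh hm hv)).resolve_left ?_⟩
    intro h0
    have : v ∈ (⊥ : Submodule F V) := by rw [← h0]; exact self_mem_M _ _
    rw [Submodule.mem_bot] at this
    exact hv (by rw [this]; simp)
  right
  push Not at hcase
  have hpol : ∀ x y, B x ((nn h ^ m) y) = - B y ((nn h ^ m) x) := by
    intro x y
    have h1 := hcase (x + y)
    simp only [map_add, LinearMap.add_apply, hcase x, hcase y] at h1
    linear_combination h1
  obtain ⟨x, y, hxy⟩ : ∃ x y, B x ((nn h ^ m) y) ≠ 0 := by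
    by_contra hcon
    push Not at hcon
    apply hm'
    ext y
    rw [LinearMap.zero_apply]
    apply hN
    intro x
    exact hB.zero (hcon x y)
  have hyx : B y ((nn h ^ m) x) ≠ 0 := by
    intro h0
    rw [hpol, h0, neg_zero] at hxy
    exact hxy rfl
  have htop : ∀ x y, B x ((nn h ^ m) y) ≠ 0 → M h x ⊔ M h y = ⊤ := by
    intro x y hxy
    refine (hI _ (M_sup_inv h x y) (nd_pair hB hh hm (hcase x) (hcase y) hxy (by
      intro h0
      rw [hpol, h0, neg_zero] at hxy
      exact hxy rfl))).resolve_left ?_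
    intro h0
    have : x ∈ (⊥ : Submodule F V) := by rw [← h0]; exact Submodule.mem_sup_left (self_mem_M _ _)
    rw [Submodule.mem_bot] at this
    exact hxy (by rw [this]; simp)
  have hNx : (nn h ^ m) x ≠ 0 := by
    intro h0
    exact hyx (by rw [h0, map_zero])
  have hC1 : ∀ {P : Submodule F V}, P = ⊤ → C1On B h P → C1 B h := by
    rintro P rfl ⟨Q, R, h1, h2, h3, h4⟩
    exact ⟨Q, R, h1, h2, h3, h4⟩
  rcases Nat.even_or_odd' m with ⟨a, hma | hma⟩
  · -- m even
    have hnot : (nn h ^ m) x ∉ K (cc h) (x - h⁻¹ x) := by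
      rintro ⟨f, hf⟩
      change aeval (cc h) f (x - h⁻¹ x) = _ at hf
      rw [aeval_cc_eq] at hf
      have h1 : ∀ v, h ((nn h ^ m) v) = (nn h ^ m) v := by
        intro v
        have h2 : nn h ((nn h ^ m) v) = 0 := by
          rw [← Module.End.mul_apply, ← pow_succ', hm, LinearMap.zero_apply]
        rw [nn_apply, sub_eq_zero] at h2
        exact h2
      have h3 := congrArg (fun w => h w) hf
      rw [h1, ← aeval_cc_eq, g_aeval, map_sub, app_inv, ← nn_apply, aeval_cc_eq] at h3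
      exact val_lemma hm (ε := 1) (by rw [hma]; exact ⟨a, rfl⟩) hNx _ (by rw [pow_one]; exact h3)
    obtain ⟨z, hz1, hz2⟩ := exists_sep hB hN hnot
    have hxz : B x ((nn h ^ m) z) ≠ 0 := by
      rw [hpol, ← hB.neg]
      exact hz2
    have hC : C1 B h := hC1 (htop x z hxz) (c1_of_odd hB hh (fun f => by
      rw [← adj_aeval (cc_adj hh)]
      exact hz1 _ ⟨f, rfl⟩))
    by_cases h2 : (2 : F) = 0
    · exact Or.inl ⟨hC, h2⟩
    right
    have hfin := finrank_pair hm (hcase x) (hcase y) hxy hyx (htop x y hxy)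
    rw [hma] at hm
    have hSN := ss_pow_eq hm
    rw [hma, hSN] at hxy
    obtain ⟨x', hx1, hx2⟩ := exists_isotropic h2 hB hh hm hxy
    have hyx' : B y ((ss h ^ a) x') ≠ 0 := by
      rw [hB.neg, ss_adj hh]
      exact neg_ne_zero.2 hx2
    obtain ⟨y', hy1, hy2⟩ := exists_isotropic h2 hB hh hm hyx'
    have hxy' : B x' ((nn h ^ m) y') ≠ 0 := by
      rw [hma, hSN, hB.neg, ss_adj hh]
      exact neg_ne_zero.2 hy2
    obtain ⟨J, hJ1, hJ2, hJ3⟩ := exists_J hB hN hh hx1 hy1 (htop x' y' hxy')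
    refine ⟨hC, a, by rw [hfin, hma], ?_, J, hJ1, hJ2, hJ3⟩
    rintro rfl v
    have h3 : nn h v = 0 := by
      rw [mul_zero, zero_add, pow_one] at hm
      rw [hm, LinearMap.zero_apply]
    rw [nn_apply, sub_eq_zero] at h3
    exact h3
  · -- m odd
    left
    have hnot : (nn h ^ m) x ∉ K (cc h) x := by
      rintro ⟨f, hf⟩
      change aeval (cc h) f x = _ at hf
      rw [aeval_cc_eq] at hf
      exact val_lemma hm (ε := 0) (by rw [hma]; exact ⟨a, rfl⟩) hNx _ (by rw [pow_zero]; exact hf)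
    obtain ⟨z, hz1, hz2⟩ := exists_sep hB hN hnot
    have hxz : B x ((nn h ^ m) z) ≠ 0 := by
      rw [hpol, ← hB.neg]
      exact hz2
    refine ⟨hC1 (htop x z hxz) (c1_of_two hB hh (fun f => by
      rw [← adj_aeval (cc_adj hh)]
      exact hz1 _ ⟨f, rfl⟩)), ?_⟩
    -- `2 = 0`
    rw [hma] at hm
    have e1 : ss h ^ (a + 1) = 0 := ss_pow_zero (by rw [show 2 * (a + 1) = 2 * a + 1 + 1 by ring]; exact hm)
    have e2 : ∀ v, h (nn h ((ss h ^ a) v)) = nn h ((ss h ^ a) v) := by
      intro v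
      have h3 : nn h (nn h ((ss h ^ a) v)) = 0 := by
        rw [← Module.End.mul_apply (nn h) (nn h), ← pow_two, ← h_mul_ss, Module.End.mul_apply, ss_app_pow, e1]
        simp
      rw [nn_apply h (nn h _), sub_eq_zero] at h3
      exact h3
    have e3 : ∀ v, (nn h ^ m) v = nn h ((ss h ^ a) v) := by
      intro v
      rw [hma, pow_succ', nn_pow_two_mul, Module.End.mul_apply, Module.End.mul_apply]
      have h4 : ∀ (k : ℕ) (w : V), nn h (((h : Module.End F V) ^ k) w) = ((h : Module.End F V) ^ k) (nn h w) := by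
        intro k w
        exact LinearMap.congr_fun ((comm_h_nn h).pow_left k).eq.symm w
      rw [h4]
      have h5 : ∀ k : ℕ, ((h : Module.End F V) ^ k) (nn h ((ss h ^ a) v)) = nn h ((ss h ^ a) v) := by
        intro k
        induction k with
        | zero => simp
        | succ k ih =>
          rw [pow_succ, Module.End.mul_apply]
          have : (h : Module.End F V) (nn h ((ss h ^ a) v)) = nn h ((ss h ^ a) v) := e2 v
          rw [this, ih]
      rw [h5]
    by_contra h2
    apply hxy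
    have e4 : ∀ v, B v (h ((ss h ^ a) v)) = 0 := by
      intro v
      have h3 := hcase v
      rw [e3, nn_apply, map_sub, ss_pow, self_aeval hB hh, sub_zero] at h3
      rw [ss_pow]
      exact h3
    have e5 : B x (h ((ss h ^ a) y)) + B y (h ((ss h ^ a) x)) = 0 := by
      have h3 := e4 (x + y)
      simp only [map_add, LinearMap.add_apply, e4 x, e4 y] at h3
      linear_combination h3
    have e6 : B y (h ((ss h ^ a) x)) = - B x (h⁻¹ ((ss h ^ a) y)) := by
      rw [hB.neg, hh.adj, ss_adj hh]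
      congr 2
      rw [ss_pow]
      exact (ginv_aeval h _ _).symm
    have e7 : (ss h ^ a) y = h⁻¹ ((ss h ^ a) y) + h⁻¹ (nn h ((ss h ^ a) y)) := by
      rw [nn_apply, map_sub, inv_app]; abel
    have e8 : h⁻¹ (nn h ((ss h ^ a) y)) = nn h ((ss h ^ a) y) := by
      have := congrArg (fun w => h⁻¹ w) (e2 y)
      simp only [inv_app] at this
      exact this.symm
    have e9 : h ((ss h ^ a) y) = nn h ((ss h ^ a) y) + (ss h ^ a) y := by rw [nn_apply]; abel
    have e10 : (2 : F) * B x (nn h ((ss h ^ a) y)) = 0 := by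
      have h3 : h⁻¹ ((ss h ^ a) y) = (ss h ^ a) y - nn h ((ss h ^ a) y) := by
        rw [e8] at e7
        exact (sub_eq_of_eq_add e7).symm
      rw [e6, e9, h3, map_add, map_sub] at e5
      linear_combination e5
    rw [e3]
    exact (mul_eq_zero.1 e10).resolve_left h2

end Cfsg.Agent.H144
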