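import Mathlib
import Cfsg.Agent.H144.Indec

/-!
# The pieces of an isometry of a symplectic space

`indec_main` : an orthogonally indecomposable isometry `g` satisfies `C1 B g`, or the characteristic is not two
and `-g` is an exceptional piece.
-/

set_option autoImplicit false
open Polynomial

noncomputable section

namespace Cfsg.Agent.H144

variable {F V : Type*} [Field F] [AddCommGroup V] [Module F V]

/-- `-g` -/
def ng (g : V ≃ₗ[F] V) : V ≃ₗ[F] V := LinearEquiv.neg F * g

theorem ng_apply (g : V ≃ₗ[F] V) (v : V) : ng g v = - g v := rfl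

theorem ng_iso {B : LinearMap.BilinForm F V} {g : V ≃ₗ[F] V} (hg : Iso B g) : Iso B (ng g) := by
  intro x y
  rw [ng_apply, ng_apply, map_neg, map_neg, LinearMap.neg_apply, neg_neg, hg]

theorem ng_inv_apply (g : V ≃ₗ[F] V) (v : V) : (ng g)⁻¹ v = - g⁻¹ v := by
  have h : ng g (-g⁻¹ v) = v := by rw [ng_apply, map_neg, app_inv, neg_neg]
  nth_rewrite 1 [← h]
  rw [inv_app]

theorem ng_Inv {g : V ≃ₗ[F] V} {P : Submodule F V} (h : Inv (ng g) P) : Inv g P := by
  intro v hv
  have := h v hv
  rw [ng_apply] at this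
  simpa using P.neg_mem this

theorem ng_indec {B : LinearMap.BilinForm F V} {g : V ≃ₗ[F] V} (h : Indec B g) : Indec B (ng g) :=
  fun P hP hP' => h P (ng_Inv hP) hP'

theorem M_ng (g : V ≃ₗ[F] V) (v : V) : M (ng g) v ≤ M g v := by
  apply M_le _ _ (self_mem_M g v)
  · intro w hw
    rw [ng_apply]
    exact Submodule.neg_mem _ (M_inv hw)
  · intro w hw
    rw [ng_inv_apply]
    exact Submodule.neg_mem _ (M_inv' hw)

theorem c1_top {B : LinearMap.BilinForm F V} {g : V ≃ₗ[F] V} {P : Submodule F V} (hP : P = ⊤)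
    (h : C1On B g P) : C1 B g := by
  subst hP
  obtain ⟨Q, R, h1, h2, h3, h4⟩ := h
  exact ⟨Q, R, h1, h2, h3, h4⟩

/-- from an eigenvalue of `c` to nilpotency -/
theorem nil_of_root {g : V ≃ₗ[F] V} {ε : F} (hε : ε * ε = 1) {k : ℕ}
    (h : aeval (cc g) ((X - C (2 * ε)) ^ k) = 0) {h' : V ≃ₗ[F] V} (hh : ∀ v, h' v = ε • g v) :
    nn h' ^ (2 * k) = 0 := by
  have h1 : nn h' ^ 2 = (ε • (g : Module.End F V)) * (ε • aeval (cc g) (X - C (2 * ε))) := by
    ext v
    rw [pow_two, Module.End.mul_apply, Module.End.mul_apply, nn_apply, nn_apply, hh, hh]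
    simp only [LinearMap.smul_apply, map_sub, aeval_X, aeval_C, LinearMap.sub_apply, Module.algebraMap_end_apply,
      map_smul]
    rw [cc_apply]
    change ε • (ε • g (g v) - g v) - (ε • g v - v) = ε • (ε • g (g v + g⁻¹ v) - (2 * ε) • ε • g v)
    rw [map_add, app_inv]
    match_scalars
    · ring
    · linear_combination (2 * ε) * hε
    · linear_combination -hε
  have h2 : Commute (ε • (g : Module.End F V)) (ε • aeval (cc g) (X - C (2 * ε))) := by
    apply Commute.smul_left
    apply Commute.smul_right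
    ext v
    exact g_aeval g _ v
  rw [pow_mul, h1, h2.mul_pow]
  have h3 : (ε • aeval (cc g) (X - C (2 * ε))) ^ k = 0 := by
    rw [_root_.smul_pow, ← map_pow, h, smul_zero]
  rw [h3, mul_zero]

variable [FiniteDimensional F V]

theorem indec_main {B : LinearMap.BilinForm F V} (hB : Alt B) (hN : Nond B) {g : V ≃ₗ[F] V} (hg : Iso B g)
    [Nontrivial V] (hI : Indec B g) : C1 B g ∨ ((2 : F) ≠ 0 ∧ Exc B (ng g)) := by
  -- minimal polynomial of `c` is a power of an irreducible polynomial
  have hint : IsIntegral F (cc g) := Algebra.IsIntegral.isIntegral _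
  obtain ⟨π, hπ, hπd⟩ := exists_irreducible_of_natDegree_pos (minpoly.natDegree_pos hint)
  have hμ0 : minpoly F (cc g) ≠ 0 := minpoly.ne_zero hint
  obtain ⟨q, hq, hqn⟩ := (FiniteMultiplicity.of_prime_left hπ.prime hμ0).exists_eq_pow_mul_and_not_dvd
  obtain ⟨e, he⟩ : ∃ e, multiplicity π (minpoly F (cc g)) = e + 1 := by
    refine ⟨multiplicity π (minpoly F (cc g)) - 1, ?_⟩
    rcases Nat.eq_zero_or_pos (multiplicity π (minpoly F (cc g))) with h0 | h0
    · rw [h0, pow_zero, one_mul] at hq
      rw [hq] at hπd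
      exact absurd hπd hqn
    · omega
  rw [he] at hq
  have hcop : IsCoprime (π ^ (e + 1)) q := ((hπ.coprime_iff_not_dvd).2 hqn).pow_left
  set P := LinearMap.ker (aeval (cc g) (π ^ (e + 1))) with hP
  set Q := LinearMap.ker (aeval (cc g) q) with hQ
  have hPQ : P ⊔ Q = ⊤ := by
    rw [hP, hQ, sup_ker_aeval_eq_ker_aeval_mul_of_coprime _ hcop, ← hq, minpoly.aeval]
    exact LinearMap.ker_zero
  have horth : Orth B P Q := by
    intro x hx y hy
    obtain ⟨a, b, hab⟩ := hcop
    have h1 : x = aeval (cc g) (b * q) x := by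
      have h2 : aeval (cc g) (a * π ^ (e + 1) + b * q) x = x := by rw [hab]; simp
      rw [map_add, LinearMap.add_apply, aeval_mul_app, LinearMap.mem_ker.1 hx, map_zero, zero_add] at h2
      exact h2.symm
    rw [h1, adj_aeval (cc_adj hg), aeval_mul_app, LinearMap.mem_ker.1 hy, map_zero, map_zero]
  have hPtop : P = ⊤ := by
    refine (hI P ?_ ?_).resolve_left ?_
    · intro v hv
      rw [hP, LinearMap.mem_ker] at hv ⊢
      rw [← g_aeval, hv, map_zero]
    · intro v hv hw
      exact eq_zero_of_orth hN hPQ hw (horth v hv)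
    · intro h0
      rw [h0, bot_sup_eq] at hPQ
      have h1 : aeval (cc g) q = 0 := by
        ext v
        have : v ∈ Q := by rw [hPQ]; trivial
        exact LinearMap.mem_ker.1 this
      have h2 := minpoly.dvd F (cc g) h1
      exact hqn (hπd.trans h2)
  have hzero : aeval (cc g) (π ^ (e + 1)) = 0 := by
    ext v
    have : v ∈ P := by rw [hPtop]; trivial
    exact LinearMap.mem_ker.1 this
  have hnz : aeval (cc g) (π ^ e) ≠ 0 := by
    intro h0
    have h1 := minpoly.dvd F (cc g) h0
    have h2 : π ^ (e + 1) ∣ π ^ e := by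
      refine dvd_trans ?_ h1
      rw [hq]
      exact dvd_mul_right _ _
    have h3 := (pow_dvd_pow_iff hπ.ne_zero hπ.not_isUnit).1 h2
    omega
  by_cases hcase : ∃ v f, B v (g (aeval (cc g) (π ^ e * f) v)) ≠ 0
  · obtain ⟨v, f, hv⟩ := hcase
    left
    refine c1_top ?_ (c1_of_cyclic hB hg v)
    refine (hI _ (fun w hw => M_inv hw) (nd_cyclic hB hg hπ hzero hv)).resolve_left ?_
    intro h0
    have : v ∈ (⊥ : Submodule F V) := by rw [← h0]; exact self_mem_M _ _
    rw [Submodule.mem_bot] at this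
    exact hv (by rw [this]; simp)
  push Not at hcase
  have hT : ∀ y, g (aeval (cc g) (π ^ e) y) = g⁻¹ (aeval (cc g) (π ^ e) y) := by
    intro y
    rw [← sub_eq_zero]
    apply hN
    intro x
    apply hB.zero
    have h1 := hcase (x + y) 1
    have h2 := hcase x 1
    have h3 := hcase y 1
    rw [mul_one] at h1 h2 h3
    simp only [map_add, LinearMap.add_apply, h2, h3] at h1
    have h4 : B y (g (aeval (cc g) (π ^ e) x)) = - B x (g⁻¹ (aeval (cc g) (π ^ e) y)) := by
      rw [hB.neg, hg.adj, adj_aeval (cc_adj hg), ← ginv_aeval]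
    rw [h4] at h1
    rw [map_sub]
    linear_combination h1
  -- an eigenvector
  obtain ⟨y, hy⟩ : ∃ y, aeval (cc g) (π ^ e) y ≠ 0 := by
    by_contra hcon
    push Not at hcon
    exact hnz (LinearMap.ext hcon)
  set u := aeval (cc g) (π ^ e) y with hu
  have hgg : g (g u) = u := by
    have h1 := congrArg (fun w => g w) (hT y)
    rw [← hu] at h1
    simpa [app_inv] using h1
  have hπu : aeval (cc g) π u = 0 := by
    rw [hu, ← aeval_mul_app, ← pow_succ', hzero, LinearMap.zero_apply]
  obtain ⟨ε, hε, z, hz, hgz, hπz⟩ : ∃ ε : F, (ε = 1 ∨ ε = -1) ∧ ∃ z, z ≠ 0 ∧ g z = ε • z ∧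
      aeval (cc g) π z = 0 := by
    by_cases h0 : g u + u = 0
    · exact ⟨-1, Or.inr rfl, u, hy, by rw [neg_one_smul]; exact eq_neg_of_add_eq_zero_left h0, hπu⟩
    · refine ⟨1, Or.inl rfl, g u + u, h0, ?_, ?_⟩
      · rw [map_add, hgg, one_smul, add_comm]
      · rw [map_add, ← g_aeval, hπu, map_zero, add_zero]
  have hεε : ε * ε = 1 := by rcases hε with rfl | rfl <;> ring
  have hginv : g⁻¹ z = ε • z := by
    have h1 : g (ε • z) = z := by rw [map_smul, hgz, smul_smul, hεε, one_smul]
    nth_rewrite 1 [← h1]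
    rw [inv_app]
  have hcz : ∀ f : F[X], aeval (cc g) f z = f.eval (2 * ε) • z := by
    intro f
    have hc1 : cc g z = (2 * ε) • z := by rw [cc_apply, hgz, hginv, two_mul, add_smul]
    induction f using Polynomial.induction_on' with
    | add p q hp hq => simp only [map_add, LinearMap.add_apply, hp, hq, eval_add, add_smul]
    | monomial k a =>
      have hk : ∀ k : ℕ, ((cc g) ^ k) z = (2 * ε) ^ k • z := by
        intro k
        induction k with
        | zero => simp
        | succ k ih =>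
          rw [pow_succ, Module.End.mul_apply, hc1, map_smul, ih, smul_smul, pow_succ, mul_comm]
      simp only [aeval_monomial, Module.algebraMap_end_eq_smul_id, Module.End.mul_apply, LinearMap.smul_apply,
        LinearMap.id_apply, hk, eval_monomial, smul_smul]
  rw [hcz] at hπz
  have hroot : π.eval (2 * ε) = 0 := (smul_eq_zero.1 hπz).resolve_right hz
  have hdvd : (X - C (2 * ε)) ∣ π := dvd_iff_isRoot.2 hroot
  have hass : Associated (X - C (2 * ε)) π := (irreducible_X_sub_C _).associated_of_dvd hπ hdvd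
  have hpow : aeval (cc g) ((X - C (2 * ε)) ^ (e + 1)) = 0 := by
    obtain ⟨w, hw⟩ := (hass.symm.pow_pow (n := e + 1)).dvd
    rw [hw, map_mul, hzero, zero_mul]
  -- the unipotent element
  have key : ∀ h : V ≃ₗ[F] V, (∀ v, h v = ε • g v) → Iso B h → Indec B h →
      (∃ v, M h v = ⊤) ∨ (C1 B h ∧ (2 : F) = 0) ∨ Exc B h := by
    intro h hh hhi hhI
    have hnil := nil_of_root hεε hpow hh
    classical
    have hex : ∃ k, nn h ^ k = 0 := ⟨_, hnil⟩
    have hk := Nat.find_spec hex
    obtain ⟨m, hm⟩ : ∃ m, Nat.find hex = m + 1 := by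
      refine ⟨Nat.find hex - 1, ?_⟩
      rcases Nat.eq_zero_or_pos (Nat.find hex) with h0 | h0
      · rw [h0, pow_zero] at hk
        exact absurd hk one_ne_zero
      · omega
    rw [hm] at hk
    exact indec_unip hB hN hhi hhI hk (Nat.find_min hex (by omega))
  rcases hε with rfl | rfl
  · left
    rcases key g (fun v => by rw [one_smul]) hg hI with ⟨v, hv⟩ | ⟨h1, _⟩ | ⟨h1, _⟩
    · exact c1_top hv (c1_of_cyclic hB hg v)
    · exact h1
    · exact h1
  · have hc2 : ∀ {h2 : (2 : F) = 0}, C1 B (ng g) → C1 B g := by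
      rintro h2 ⟨P', Q', h3, h4, h5, h6⟩
      refine ⟨P', Q', h3, h4, h5, fun v hv => ?_⟩
      have h7 : ng g v = g v := by
        rw [ng_apply, neg_eq_iff_add_eq_zero, ← two_smul F, h2, zero_smul]
      rw [← h7]
      exact h6 v hv
    rcases key (ng g) (fun v => by rw [neg_one_smul]; rfl) (ng_iso hg) (ng_indec hI) with
      ⟨v, hv⟩ | ⟨h1, h2⟩ | h1
    · left
      refine c1_top ?_ (c1_of_cyclic hB hg v)
      rw [← top_le_iff, ← hv]
      exact M_ng g v
    · exact Or.inl (hc2 (h2 := h2) h1)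
    · by_cases h2 : (2 : F) = 0
      · exact Or.inl (hc2 (h2 := h2) h1.1)
      · exact Or.inr ⟨h2, h1⟩

end Cfsg.Agent.H144
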