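import Mathlib
import Cfsg.Agent.H144.Main

/-!
# Orthogonal decompositions
-/

set_option autoImplicit false
open Polynomial

noncomputable section

namespace Cfsg.Agent.H144

variable {F V : Type*} [Field F] [AddCommGroup V] [Module F V]

/-- orthogonal complement -/
def perp (B : LinearMap.BilinForm F V) (P : Submodule F V) : Submodule F V where
  carrier := {v | ∀ w ∈ P, B w v = 0}
  zero_mem' := fun w _ => map_zero _
  add_mem' := fun {a b} ha hb w hw => by rw [map_add, ha w hw, hb w hw, add_zero]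
  smul_mem' := fun c a ha w hw => by rw [map_smul, ha w hw, smul_zero]

theorem mem_perp {B : LinearMap.BilinForm F V} {P : Submodule F V} {v : V} :
    v ∈ perp B P ↔ ∀ w ∈ P, B w v = 0 := Iff.rfl

theorem orth_perp {B : LinearMap.BilinForm F V} (P : Submodule F V) : Orth B P (perp B P) :=
  fun x hx _ hy => hy x hx

/-- `g` is a commutator on `P` -/
def CommOn (B : LinearMap.BilinForm F V) (g : V ≃ₗ[F] V) (P : Submodule F V) : Prop :=
  ∃ X Z : V ≃ₗ[F] V, Iso B X ∧ Iso B Z ∧ (∀ v ∈ P, X v ∈ P) ∧ (∀ v ∈ P, Z v ∈ P) ∧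
    (∀ v ∈ perp B P, X v = v ∧ Z v = v) ∧ ∀ v ∈ P, g (Z (X v)) = X (Z v)

theorem CommOn.bot (B : LinearMap.BilinForm F V) (g : V ≃ₗ[F] V) : CommOn B g ⊥ := by
  refine ⟨1, 1, Iso.one B, Iso.one B, fun v hv => hv, fun v hv => hv, fun v _ => ⟨rfl, rfl⟩, fun v hv => ?_⟩
  rw [Submodule.mem_bot] at hv
  subst hv
  simp

theorem CommOn.of_fixed (B : LinearMap.BilinForm F V) (g : V ≃ₗ[F] V) {P : Submodule F V}
    (h : ∀ v ∈ P, g v = v) : CommOn B g P :=
  ⟨1, 1, Iso.one B, Iso.one B, fun v hv => hv, fun v hv => hv, fun v _ => ⟨rfl, rfl⟩, fun v hv => h v hv⟩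

theorem CommOn.sup {B : LinearMap.BilinForm F V} (hB : Alt B) {g : V ≃ₗ[F] V} {P Q : Submodule F V}
    (hPQ : Orth B P Q) (hP : CommOn B g P) (hQ : CommOn B g Q) : CommOn B g (P ⊔ Q) := by
  obtain ⟨X, Z, hX, hZ, hXP, hZP, hp, hg⟩ := hP
  obtain ⟨X', Z', hX', hZ', hXP', hZP', hp', hg'⟩ := hQ
  have hPp : ∀ v ∈ P, v ∈ perp B Q := fun v hv w hw => hB.zero (hPQ v hv w hw)
  have hQp : ∀ v ∈ Q, v ∈ perp B P := fun v hv w hw => hPQ w hw v hv
  refine ⟨X * X', Z * Z', hX.mul hX', hZ.mul hZ', ?_, ?_, ?_, ?_⟩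
  · intro v hv
    obtain ⟨a, ha, b, hb, rfl⟩ := Submodule.mem_sup.1 hv
    simp only [LinearEquiv.mul_apply, map_add]
    rw [(hp' a (hPp a ha)).1, (hp _ (hQp _ (hXP' b hb))).1]
    exact Submodule.add_mem_sup (hXP a ha) (hXP' b hb)
  · intro v hv
    obtain ⟨a, ha, b, hb, rfl⟩ := Submodule.mem_sup.1 hv
    simp only [LinearEquiv.mul_apply, map_add]
    rw [(hp' a (hPp a ha)).2, (hp _ (hQp _ (hZP' b hb))).2]
    exact Submodule.add_mem_sup (hZP a ha) (hZP' b hb)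
  · intro v hv
    have h1 : v ∈ perp B P := fun w hw => hv w (Submodule.mem_sup_left hw)
    have h2 : v ∈ perp B Q := fun w hw => hv w (Submodule.mem_sup_right hw)
    simp only [LinearEquiv.mul_apply]
    rw [(hp' v h2).1, (hp' v h2).2]
    exact hp v h1
  · intro v hv
    obtain ⟨a, ha, b, hb, rfl⟩ := Submodule.mem_sup.1 hv
    simp only [LinearEquiv.mul_apply, map_add]
    rw [(hp' a (hPp a ha)).1, (hp' a (hPp a ha)).2, (hp' _ (hPp _ (hXP a ha))).2,
      (hp' _ (hPp _ (hZP a ha))).1, (hp _ (hQp _ (hXP' b hb))).1, (hp _ (hQp _ (hZP' b hb))).2,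
      (hp _ (hQp _ (hZP' _ (hXP' b hb)))).2, (hp _ (hQp _ (hXP' _ (hZP' b hb)))).1, hg a ha, hg' b hb]

theorem CommOn.top {B : LinearMap.BilinForm F V} {g : V ≃ₗ[F] V} (h : CommOn B g ⊤) : IsComm B g := by
  obtain ⟨X, Z, hX, hZ, _, _, _, hg⟩ := h
  refine ⟨X, Z, hX, hZ, ?_⟩
  have h1 : g * Z * X = X * Z := by
    ext v
    exact hg v trivial
  have h2 : g = X * Z * (g * Z * X)⁻¹ * g := by rw [h1]; group
  rw [h2]
  group

theorem C1On.sup {B : LinearMap.BilinForm F V} (hB : Alt B) {g : V ≃ₗ[F] V} {P Q : Submodule F V}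
    (hPQ : Orth B P Q) (hP : C1On B g P) (hQ : C1On B g Q) : C1On B g (P ⊔ Q) := by
  obtain ⟨W, W', h1, h2, h3, h4⟩ := hP
  obtain ⟨U, U', h5, h6, h7, h8⟩ := hQ
  have hWP : W ≤ P := by rw [← h3]; exact le_sup_left
  have hWP' : W' ≤ P := by rw [← h3]; exact le_sup_right
  have hUQ : U ≤ Q := by rw [← h7]; exact le_sup_left
  have hUQ' : U' ≤ Q := by rw [← h7]; exact le_sup_right
  refine ⟨W ⊔ U, W' ⊔ U', isotropic_sup hB h1 h5 (fun x hx y hy => hPQ x (hWP hx) y (hUQ hy)),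
    isotropic_sup hB h2 h6 (fun x hx y hy => hPQ x (hWP' hx) y (hUQ' hy)), ?_, ?_⟩
  · rw [← h3, ← h7, sup_sup_sup_comm]
  · intro v hv
    obtain ⟨a, ha, b, hb, rfl⟩ := Submodule.mem_sup.1 hv
    have : g (a + b) - (a + b) = (g a - a) + (g b - b) := by rw [map_add]; abel
    rw [this]
    exact Submodule.add_mem_sup (h4 a ha) (h8 b hb)

theorem C1On.bot (B : LinearMap.BilinForm F V) (g : V ≃ₗ[F] V) : C1On B g ⊥ := by
  refine ⟨⊥, ⊥, ?_, ?_, by simp, ?_⟩
  · intro x hx y _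
    rw [Submodule.mem_bot] at hx
    subst hx; simp
  · intro x hx y _
    rw [Submodule.mem_bot] at hx
    subst hx; simp
  · intro v hv
    rw [Submodule.mem_bot] at hv
    subst hv; simp

theorem Nd.sup {B : LinearMap.BilinForm F V} (hB : Alt B) {P Q : Submodule F V}
    (hPQ : Orth B P Q) (hP : Nd B P) (hQ : Nd B Q) : Nd B (P ⊔ Q) := by
  intro v hv h
  obtain ⟨a, ha, b, hb, rfl⟩ := Submodule.mem_sup.1 hv
  have h1 : a = 0 := hP a ha (fun w hw => by
    have := h w (Submodule.mem_sup_left hw)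
    rwa [map_add, LinearMap.add_apply, hB.zero (hPQ w hw b hb), add_zero] at this)
  have h2 : b = 0 := hQ b hb (fun w hw => by
    have := h w (Submodule.mem_sup_right hw)
    rwa [map_add, LinearMap.add_apply, hPQ a ha w hw, zero_add] at this)
  rw [h1, h2, add_zero]

theorem Inv.sup {g : V ≃ₗ[F] V} {P Q : Submodule F V} (hP : Inv g P) (hQ : Inv g Q) : Inv g (P ⊔ Q) := by
  intro v hv
  obtain ⟨a, ha, b, hb, rfl⟩ := Submodule.mem_sup.1 hv
  rw [map_add]
  exact Submodule.add_mem_sup (hP a ha) (hQ b hb)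

section FD

variable [FiniteDimensional F V]

/-- restriction to an invariant subspace -/
def gr (g : V ≃ₗ[F] V) (P : Submodule F V) (hP : Inv g P) : P ≃ₗ[F] P :=
  LinearEquiv.ofLinearMap ((g : V →ₗ[F] V).restrict hP) (((g⁻¹ : V ≃ₗ[F] V) : V →ₗ[F] V).restrict (inv_mem_of_mem hP))
    (by ext v; exact app_inv g v) (by ext v; exact inv_app g v)

theorem gr_apply (g : V ≃ₗ[F] V) (P : Submodule F V) (hP : Inv g P) (v : P) : (gr g P hP v : V) = g v := rfl

theorem gr_iso {B : LinearMap.BilinForm F V} {g : V ≃ₗ[F] V} (hg : Iso B g) (P : Submodule F V)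
    (hP : Inv g P) : Iso (B.restrict P) (gr g P hP) := fun x y => hg x y

theorem restrict_alt {B : LinearMap.BilinForm F V} (hB : Alt B) (P : Submodule F V) : Alt (B.restrict P) :=
  fun x => hB x

theorem restrict_nond {B : LinearMap.BilinForm F V} {P : Submodule F V} (hP : Nd B P) :
    Nond (B.restrict P) := fun x hx => Subtype.ext (hP x x.2 (fun w hw => hx ⟨w, hw⟩))

theorem sup_perp {B : LinearMap.BilinForm F V} (hB : Alt B) {P : Submodule F V} (hP : Nd B P) :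
    P ⊔ perp B P = ⊤ := by
  rw [eq_top_iff]
  intro v _
  obtain ⟨p, hp⟩ := exists_rep (restrict_alt hB P) (restrict_nond hP) ((B.flip v) ∘ₗ P.subtype)
  rw [Submodule.mem_sup]
  refine ⟨p, p.2, v - p, fun w hw => ?_, by abel⟩
  have h1 : B w p = B w v := hp ⟨w, hw⟩
  rw [map_sub, h1, sub_self]

theorem isCompl_perp {B : LinearMap.BilinForm F V} (hB : Alt B) {P : Submodule F V} (hP : Nd B P) :
    IsCompl P (perp B P) := by
  refine ⟨?_, codisjoint_iff.2 (sup_perp hB hP)⟩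
  rw [Submodule.disjoint_def]
  intro v hv hv'
  exact hP v hv (fun w hw => hB.zero (hv' w hw))

/-- extend an isometry of `P` by the identity of `P^⊥` -/
theorem ext_iso {B : LinearMap.BilinForm F V} (hB : Alt B) {P : Submodule F V} (hP : Nd B P)
    {x : P ≃ₗ[F] P} (hx : Iso (B.restrict P) x) :
    ∃ X : V ≃ₗ[F] V, Iso B X ∧ (∀ v : P, X v = x v) ∧ ∀ v ∈ perp B P, X v = v := by
  have hc := isCompl_perp hB hP
  let E := Submodule.prodEquivOfIsCompl P (perp B P) hc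
  have hE : ∀ (p : P) (q : perp B P), E.symm (p + q) = (p, q) := by
    intro p q
    rw [E.symm_apply_eq]
    rfl
  let X : V ≃ₗ[F] V := E.symm.trans ((x.prodCongr (LinearEquiv.refl F _)).trans E)
  have hX : ∀ (p : P) (q : perp B P), X (p + q) = x p + q := by
    intro p q
    change E ((x.prodCongr (LinearEquiv.refl F _)) (E.symm (p + q))) = _
    rw [hE]
    rfl
  refine ⟨X, ?_, fun v => ?_, fun v hv => ?_⟩
  · intro v w
    obtain ⟨p, hp, q, hq, rfl⟩ := mem_sup_top (sup_perp hB hP) v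
    obtain ⟨p', hp', q', hq', rfl⟩ := mem_sup_top (sup_perp hB hP) w
    have h1 := hX ⟨p, hp⟩ ⟨q, hq⟩
    have h2 := hX ⟨p', hp'⟩ ⟨q', hq'⟩
    simp only at h1 h2
    rw [h1, h2]
    simp only [map_add, LinearMap.add_apply]
    have h3 : B (x ⟨p, hp⟩ : V) (x ⟨p', hp'⟩ : V) = B p p' := hx ⟨p, hp⟩ ⟨p', hp'⟩
    rw [hq' _ (x ⟨p, hp⟩).2, hB.zero (hq _ (x ⟨p', hp'⟩).2), hq' p hp, hB.zero (hq p' hp'), h3]
  · have := hX v 0
    simpa using this
  · have := hX 0 ⟨v, hv⟩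
    simpa using this

theorem commOn_of {B : LinearMap.BilinForm F V} (hB : Alt B) {P : Submodule F V} (hP : Nd B P)
    {g : V ≃ₗ[F] V} (hI : Inv g P) (h : IsComm (B.restrict P) (gr g P hI)) : CommOn B g P := by
  obtain ⟨x, z, hx, hz, hxz⟩ := h
  obtain ⟨X, hX, hXx, hXp⟩ := ext_iso hB hP hx
  obtain ⟨Z, hZ, hZz, hZp⟩ := ext_iso hB hP hz
  refine ⟨X, Z, hX, hZ, fun v hv => ?_, fun v hv => ?_, fun v hv => ⟨hXp v hv, hZp v hv⟩, fun v hv => ?_⟩
  · rw [hXx ⟨v, hv⟩]; exact (x ⟨v, hv⟩).2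
  · rw [hZz ⟨v, hv⟩]; exact (z ⟨v, hv⟩).2
  · have h1 : gr g P hI * z * x = x * z := by rw [hxz]; group
    have h2 := congrArg (fun t : P ≃ₗ[F] P => (t ⟨v, hv⟩ : V)) h1
    rw [hXx ⟨v, hv⟩, hZz ⟨v, hv⟩, hXx, hZz, ← gr_apply g P hI]
    exact h2

theorem c1_of_c1On {B : LinearMap.BilinForm F V} {P : Submodule F V} {g : V ≃ₗ[F] V} (hI : Inv g P)
    (h : C1On B g P) : C1 (B.restrict P) (gr g P hI) := by
  obtain ⟨W, W', h1, h2, h3, h4⟩ := h
  have hW : W ≤ P := by rw [← h3]; exact le_sup_left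
  have hW' : W' ≤ P := by rw [← h3]; exact le_sup_right
  refine ⟨W.comap P.subtype, W'.comap P.subtype, fun x hx y hy => h1 x hx y hy,
    fun x hx y hy => h2 x hx y hy, ?_, fun v hv => h4 v hv⟩
  rw [eq_top_iff]
  intro v _
  have hv : (v : V) ∈ W ⊔ W' := by rw [h3]; exact v.2
  obtain ⟨a, ha, b, hb, hab⟩ := Submodule.mem_sup.1 hv
  rw [Submodule.mem_sup]
  exact ⟨⟨a, hW ha⟩, ha, ⟨b, hW' hb⟩, hb, Subtype.ext hab⟩

theorem c1On_of_c1 {B : LinearMap.BilinForm F V} {P : Submodule F V} {g : V ≃ₗ[F] V} (hI : Inv g P)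
    (h : C1 (B.restrict P) (gr g P hI)) : C1On B g P := by
  obtain ⟨W, W', h1, h2, h3, h4⟩ := h
  refine ⟨W.map P.subtype, W'.map P.subtype, ?_, ?_, ?_, ?_⟩
  · rintro _ ⟨x, hx, rfl⟩ _ ⟨y, hy, rfl⟩
    exact h1 x hx y hy
  · rintro _ ⟨x, hx, rfl⟩ _ ⟨y, hy, rfl⟩
    exact h2 x hx y hy
  · rw [← Submodule.map_sup, h3, Submodule.map_subtype_top]
  · rintro _ ⟨x, hx, rfl⟩
    exact ⟨_, h4 x hx, rfl⟩

/-- exceptional pieces: `-g` is an exceptional piece on `P` -/
def ExcOn (B : LinearMap.BilinForm F V) (g : V ≃ₗ[F] V) (P : Submodule F V) : Prop :=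
  ∃ hI : Inv g P, Exc (B.restrict P) (ng (gr g P hI))

/-- the decomposition -/
def Dec (B : LinearMap.BilinForm F V) (g : V ≃ₗ[F] V) (P : Submodule F V) : Prop :=
  ∃ P' P₁ P₂ : Submodule F V, Orth B P' P₁ ∧ Orth B P' P₂ ∧ Orth B P₁ P₂ ∧ Inv g P' ∧ Inv g P₁ ∧ Inv g P₂ ∧
    Nd B P' ∧ Nd B P₁ ∧ Nd B P₂ ∧ P' ⊔ (P₁ ⊔ P₂) = P ∧ C1On B g P' ∧
    ((P₁ = ⊥ ∧ P₂ = ⊥) ∨ ((2 : F) ≠ 0 ∧ ExcOn B g P₁)) ∧ CommOn B g P₂

theorem commOn_exc [Finite F] {B : LinearMap.BilinForm F V} (hB : Alt B) {g : V ≃ₗ[F] V} (hg : Iso B g)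
    (h2 : (2 : F) ≠ 0) {P : Submodule F V} (hP : Nd B P) (h : ExcOn B g P) : CommOn B g P := by
  obtain ⟨hI, _, a, ha, _, J, hJ, hJ2, hJh⟩ := h
  apply commOn_of hB hP hI
  apply comm_of_inverted h2 (restrict_alt hB P) (restrict_nond hP) (gr_iso hg P hI) hJ hJ2
  intro v
  have h1 := hJh v
  rw [ng_apply, ng_inv_apply, map_neg, neg_inj] at h1
  rw [h1, app_inv]

theorem Nd.bot (B : LinearMap.BilinForm F V) : Nd B ⊥ := fun v hv _ => (Submodule.mem_bot F).1 hv

theorem Inv.bot (g : V ≃ₗ[F] V) : Inv g ⊥ := fun v hv => by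
  rw [Submodule.mem_bot] at hv ⊢; rw [hv, map_zero]

theorem exists_dec [Finite F] {B : LinearMap.BilinForm F V} (hB : Alt B) {g : V ≃ₗ[F] V}
    (hg : Iso B g) (n : ℕ) : ∀ P : Submodule F V, Inv g P → Nd B P → Module.finrank F P = n → Dec B g P := by
  induction n using Nat.strong_induction_on with
  | _ n ih =>
  intro P hPI hPN hn
  rcases Nat.eq_zero_or_pos n with h0 | hpos
  · rw [h0] at hn
    have hbot : P = ⊥ := Submodule.finrank_eq_zero.1 hn
    subst hbot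
    refine ⟨⊥, ⊥, ⊥, ?_, ?_, ?_, Inv.bot g, Inv.bot g, Inv.bot g, Nd.bot B, Nd.bot B, Nd.bot B, by simp,
      C1On.bot B g, Or.inl ⟨rfl, rfl⟩, CommOn.bot B g⟩ <;>
    · intro x hx y _
      rw [Submodule.mem_bot] at hx
      subst hx; simp
  · -- a minimal nonzero invariant nondegenerate subspace
    classical
    have hex : ∃ k, ∃ Q : Submodule F V, Q ≤ P ∧ Q ≠ ⊥ ∧ Inv g Q ∧ Nd B Q ∧ Module.finrank F Q = k :=
      ⟨n, P, le_rfl, by
        rintro rfl
        rw [finrank_bot] at hn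
        omega, hPI, hPN, hn⟩
    obtain ⟨Q, hQP, hQ0, hQI, hQN, hQk⟩ := Nat.find_spec hex
    have hmin : ∀ Q' : Submodule F V, Q' ≤ P → Q' ≠ ⊥ → Inv g Q' → Nd B Q' →
        Module.finrank F Q ≤ Module.finrank F Q' := by
      intro Q' h1 h2 h3 h4
      rw [hQk]
      exact Nat.find_min' hex ⟨Q', h1, h2, h3, h4, rfl⟩
    have hQnt : Nontrivial Q := Submodule.nontrivial_iff_ne_bot.2 hQ0
    have hIndec : Indec (B.restrict Q) (gr g Q hQI) := by
      intro R hRI hRN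
      by_cases hR : R = ⊥
      · exact Or.inl hR
      right
      have h1 : Module.finrank F (R.map Q.subtype) = Module.finrank F R :=
        (Submodule.equivMapOfInjective Q.subtype Q.injective_subtype R).finrank_eq.symm
      have h2 := hmin (R.map Q.subtype) ((Submodule.map_subtype_le Q R).trans hQP) (by
        intro h0
        apply hR
        rw [h0, finrank_bot] at h1
        exact Submodule.finrank_eq_zero.1 h1.symm) (by
        rintro _ ⟨x, hx, rfl⟩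
        exact ⟨_, hRI x hx, rfl⟩) (by
        rintro _ ⟨x, hx, rfl⟩ h0
        have := hRN x hx (fun w hw => h0 w ⟨w, hw, rfl⟩)
        rw [this]; rfl)
      rw [h1] at h2
      exact Submodule.eq_top_of_finrank_eq (le_antisymm (Submodule.finrank_le R) h2)
    have hpiece := indec_main (restrict_alt hB Q) (restrict_nond hQN) (gr_iso hg Q hQI) hIndec
    -- the complement
    set R := P ⊓ perp B Q with hR
    have hQR : Q ⊔ R = P := by
      apply le_antisymm (sup_le hQP inf_le_left)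
      intro v hv
      have h1 : v ∈ Q ⊔ perp B Q := by rw [sup_perp hB hQN]; trivial
      obtain ⟨a, ha, b, hb, rfl⟩ := Submodule.mem_sup.1 h1
      refine Submodule.add_mem_sup ha ⟨?_, hb⟩
      have := P.sub_mem hv (hQP ha)
      simpa using this
    have hQRo : Orth B Q R := fun x hx y hy => hy.2 x hx
    have hRI : Inv g R := by
      intro v hv
      refine ⟨hPI v hv.1, fun w hw => ?_⟩
      rw [hg.adj']
      exact hv.2 _ (inv_mem_of_mem hQI w hw)
    have hRN : Nd B R := by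
      intro v hv h0
      apply hPN v hv.1
      intro w hw
      rw [← hQR] at hw
      obtain ⟨a, ha, b, hb, rfl⟩ := Submodule.mem_sup.1 hw
      rw [map_add, h0 b hb, hB.zero (hQRo a ha v hv), add_zero]
    have hdisj : Disjoint Q R := by
      rw [Submodule.disjoint_def]
      intro v hv hv'
      exact hQN v hv (fun w hw => hB.zero (hv'.2 w hw))
    have hfin : Module.finrank F Q + Module.finrank F R = n := by
      have h1 := Submodule.finrank_sup_add_finrank_inf_eq Q R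
      rw [hQR, hdisj.eq_bot, finrank_bot, hn] at h1
      omega
    have hQpos : 0 < Module.finrank F Q := Module.finrank_pos
    obtain ⟨P', P₁, P₂, o1, o2, o3, i1, i2, i3, n1, n2, n3, hsup, hc, hex, hcomm⟩ :=
      ih (Module.finrank F R) (by omega) R hRI hRN rfl
    have hP'R : P' ≤ R := by rw [← hsup]; exact le_sup_left
    have hP₁R : P₁ ≤ R := by rw [← hsup]; exact le_sup_left.trans le_sup_right
    have hP₂R : P₂ ≤ R := by rw [← hsup]; exact le_sup_right.trans le_sup_right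
    have oQ : ∀ {T : Submodule F V}, T ≤ R → Orth B Q T := fun hT x hx y hy => hQRo x hx y (hT hy)
    rcases hpiece with hC | ⟨h2, hE⟩
    · refine ⟨Q ⊔ P', P₁, P₂, orth_sup (oQ hP₁R) o1, orth_sup (oQ hP₂R) o2, o3, Inv.sup hQI i1, i2, i3,
        Nd.sup hB (oQ hP'R) hQN n1, n2, n3, ?_, C1On.sup hB (oQ hP'R) (c1On_of_c1 hQI hC) hc, hex, hcomm⟩
      rw [sup_assoc, hsup, hQR]
    · refine ⟨P', Q, P₁ ⊔ P₂, (oQ hP'R).symm hB, orth_sup' o1 o2, orth_sup' (oQ hP₁R) (oQ hP₂R), i1, hQI,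
        Inv.sup i2 i3, n1, hQN, Nd.sup hB o3 n2 n3, ?_, hc, Or.inr ⟨h2, hQI, hE⟩, ?_⟩
      · rw [← sup_assoc, sup_comm P' Q, sup_assoc, hsup, hQR]
      · apply CommOn.sup hB o3 _ hcomm
        rcases hex with ⟨h3, _⟩ | ⟨_, h3⟩
        · rw [h3]; exact CommOn.bot B g
        · exact commOn_exc hB hg h2 n2 h3

end FD

end Cfsg.Agent.H144
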