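import Mathlib
import Cfsg.Agent.H144.Decomp

/-!
# Dimension four over the field with three elements: `-1 ⊥ g'`, `g' ∈ Sp_2(3)` not a scalar
-/

set_option autoImplicit false
open Polynomial

noncomputable section

namespace Cfsg.Agent.H144

/-- the Gram matrix -/
def Jm (R : Type*) [Ring R] : Matrix (Fin 4) (Fin 4) R := !![0, 1, 0, 0; -1, 0, 0, 0; 0, 0, 0, 1; 0, 0, -1, 0]

/-- the element -/
def Gm {R : Type*} [Ring R] (k t : R) : Matrix (Fin 4) (Fin 4) R :=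
  !![-1, 0, 0, 0; 0, -1, 0, 0; 0, 0, 0, -k; 0, 0, k, t]

theorem four_mat (k t : ZMod 3) (hk : k ≠ 0) : ∃ M T : Matrix (Fin 4) (Fin 4) (ZMod 3),
    M.transpose * Jm _ * M = Jm _ ∧ T.transpose * Jm _ * T = Jm _ ∧ Gm k t * T * M = M * T := by
  have h : (k = 1 ∨ k = 2) ∧ (t = 0 ∨ t = 1 ∨ t = 2) := by revert k t; decide
  rcases h with ⟨rfl | rfl, rfl | rfl | rfl⟩
  · exact ⟨!![1, 1, 0, 0; 1, 2, 0, 0; 0, 0, 2, 1; 0, 0, 1, 1], !![0, 0, 1, 1; 0, 0, 2, 0; 1, 1, 0, 0; 1, 2, 0, 0],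
      by unfold Jm; decide, by unfold Jm; decide, by unfold Gm; decide⟩
  · exact ⟨!![1, 2, 2, 2; 0, 2, 1, 2; 2, 1, 2, 2; 2, 2, 0, 1], !![2, 1, 0, 1; 1, 1, 0, 0; 1, 1, 1, 2; 1, 1, 1, 0],
      by unfold Jm; decide, by unfold Jm; decide, by unfold Gm; decide⟩
  · exact ⟨!![0, 0, 0, 1; 0, 0, 2, 1; 2, 1, 0, 0; 0, 2, 0, 0], !![2, 0, 2, 1; 2, 1, 1, 0; 1, 0, 2, 1; 2, 2, 0, 1],
      by unfold Jm; decide, by unfold Jm; decide, by unfold Gm; decide⟩
  · exact ⟨!![1, 0, 0, 0; 2, 1, 0, 0; 0, 0, 2, 2; 0, 0, 0, 2], !![0, 0, 0, 2; 0, 0, 1, 2; 0, 2, 0, 0; 1, 2, 0, 0],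
      by unfold Jm; decide, by unfold Jm; decide, by unfold Gm; decide⟩
  · exact ⟨!![1, 1, 1, 2; 1, 0, 2, 0; 2, 0, 2, 0; 2, 1, 0, 1], !![2, 2, 1, 2; 2, 1, 0, 0; 2, 1, 2, 0; 1, 2, 2, 2],
      by unfold Jm; decide, by unfold Jm; decide, by unfold Gm; decide⟩
  · exact ⟨!![0, 2, 0, 2; 1, 0, 0, 2; 2, 2, 1, 1; 1, 1, 2, 0], !![1, 0, 0, 1; 0, 0, 2, 2; 0, 2, 2, 2; 1, 0, 0, 0],
      by unfold Jm; decide, by unfold Jm; decide, by unfold Gm; decide⟩

theorem four_mat' {F : Type*} [Field F] [Finite F] (h3 : Nat.card F = 3) (k t : F) (hk : k ≠ 0) :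
    ∃ M T : Matrix (Fin 4) (Fin 4) F,
      M.transpose * Jm _ * M = Jm _ ∧ T.transpose * Jm _ * T = Jm _ ∧ Gm k t * T * M = M * T := by
  have : Fintype F := Fintype.ofFinite F
  have hc : Fintype.card F = 3 := by rw [← Nat.card_eq_fintype_card, h3]
  have : Fact (Nat.Prime 3) := ⟨Nat.prime_three⟩
  have : CharP F 3 := by
    have h1 : ringChar F ∣ 3 := by
      apply ringChar.dvd
      rw [← hc]
      exact FiniteField.cast_card_eq_zero F
    rcases (Nat.dvd_prime Nat.prime_three).1 h1 with h2 | h2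
    · exact absurd h2 (CharP.ringChar_ne_one)
    · exact (ringChar.eq_iff).1 h2
  let φ : ZMod 3 →+* F := ZMod.castHom (dvd_refl 3) F
  have hφi : Function.Injective φ := φ.injective
  have hφs : Function.Surjective φ :=
    ((Fintype.bijective_iff_injective_and_card φ).2 ⟨hφi, by rw [hc, ZMod.card]⟩).2
  obtain ⟨k', rfl⟩ := hφs k
  obtain ⟨t', rfl⟩ := hφs t
  obtain ⟨M, T, h1, h2, h4⟩ := four_mat k' t' (fun h0 => hk (by rw [h0, map_zero]))
  have hJ : (Jm (ZMod 3)).map φ = Jm F := by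
    ext i j
    fin_cases i <;> fin_cases j <;> simp [Jm]
  have hG : (Gm k' t').map φ = Gm (φ k') (φ t') := by
    ext i j
    fin_cases i <;> fin_cases j <;> simp [Gm]
  refine ⟨M.map φ, T.map φ, ?_, ?_, ?_⟩
  · rw [← hJ, ← Matrix.transpose_map, ← Matrix.map_mul, ← Matrix.map_mul, h1]
  · rw [← hJ, ← Matrix.transpose_map, ← Matrix.map_mul, ← Matrix.map_mul, h2]
  · rw [← hG, ← Matrix.map_mul, ← Matrix.map_mul, h4, Matrix.map_mul]

variable {F V : Type*} [Field F] [AddCommGroup V] [Module F V]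

theorem mat_comm {B : LinearMap.BilinForm F V} (b : Module.Basis (Fin 4) F V) {G M T : Matrix (Fin 4) (Fin 4) F}
    (hJ : ∀ i j, B (b i) (b j) = Jm F i j) {g : V ≃ₗ[F] V} (hg : ∀ j, g (b j) = ∑ i, G i j • b i)
    (hM : M.transpose * Jm _ * M = Jm _) (hT : T.transpose * Jm _ * T = Jm _) (h : G * T * M = M * T) :
    IsComm B g := by
  have hBJ : ∀ (x y : V), B x y = dotProduct (b.repr x) (Matrix.mulVec (Jm F) (b.repr y)) := by
    intro x y
    conv_lhs => rw [← b.sum_repr x, ← b.sum_repr y]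
    simp only [map_sum, LinearMap.sum_apply, map_smul, LinearMap.smul_apply, smul_eq_mul, hJ, dotProduct,
      Matrix.mulVec, Finset.mul_sum]
    rw [Finset.sum_comm]
    refine Finset.sum_congr rfl fun i _ => Finset.sum_congr rfl fun j _ => by ring
  have hdet : ∀ A : Matrix (Fin 4) (Fin 4) F, A.transpose * Jm _ * A = Jm _ → IsUnit A.det := by
    intro A hA
    have h1 := congrArg Matrix.det hA
    rw [Matrix.det_mul, Matrix.det_mul, Matrix.det_transpose] at h1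
    have h2 : (Jm F).det = 1 := by
      simp [Jm, Matrix.det_succ_row_zero, Fin.sum_univ_succ, Fin.succAbove]
    rw [h2] at h1
    exact IsUnit.of_mul_eq_one A.det (by linear_combination h1)
  have mk : ∀ A : Matrix (Fin 4) (Fin 4) F, A.transpose * Jm _ * A = Jm _ →
      ∃ X : V ≃ₗ[F] V, Iso B X ∧ ∀ v, X v = Matrix.toLin b b A v := by
    intro A hA
    refine ⟨Matrix.toLinearEquiv b A (hdet A hA), ?_, fun v => rfl⟩
    intro x y
    rw [hBJ, hBJ]
    have h1 : ∀ v, (b.repr (Matrix.toLinearEquiv b A (hdet A hA) v) : Fin 4 → F) = Matrix.mulVec A (b.repr v) := by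
      intro v
      change (b.repr (Matrix.toLin b b A v) : Fin 4 → F) = _
      rw [Matrix.repr_toLin]
    rw [h1, h1, Matrix.mulVec_mulVec, ← Matrix.vecMul_transpose, ← Matrix.dotProduct_mulVec,
      Matrix.mulVec_mulVec, ← Matrix.mul_assoc, hA]
  obtain ⟨X, hX, hX'⟩ := mk M hM
  obtain ⟨Z, hZ, hZ'⟩ := mk T hT
  refine ⟨X, Z, hX, hZ, ?_⟩
  have hgG : ∀ v, g v = Matrix.toLin b b G v := by
    intro v
    have : (g : V →ₗ[F] V) = Matrix.toLin b b G := by
      apply b.ext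
      intro j
      rw [Matrix.toLin_self]
      exact hg j
    exact LinearMap.congr_fun this v
  have h1 : g * Z * X = X * Z := by
    ext v
    simp only [LinearEquiv.mul_apply]
    rw [hgG, hZ', hX', hX', hZ', ← Matrix.toLin_mul_apply, ← Matrix.toLin_mul_apply, ← Matrix.toLin_mul_apply, h]
  have h2 : g = X * Z * (g * Z * X)⁻¹ * g := by rw [h1]; group
  rw [h2]
  group

end Cfsg.Agent.H144
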