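import Mathlib
import Cfsg.Agent.H144.Four

/-!
# Every isometry of a symplectic space over a finite field is a commutator

except in the groups `Sp_2(2)`, `Sp_2(3)`, `Sp_4(2)`.
-/

set_option autoImplicit false
open Polynomial

noncomputable section

namespace Cfsg.Agent.H144

variable {F V : Type*} [Field F] [AddCommGroup V] [Module F V] [FiniteDimensional F V]

theorem exists_nonscalar {B : LinearMap.BilinForm F V} {g : V ≃ₗ[F] V} {P : Submodule F V}
    (hN : Nd B P) (hI : Inv g P) (hfin : Module.finrank F P = 2) (hC : C1On B g P)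
    (hne : ¬ ∀ v ∈ P, g v = v) : ∃ v ∈ P, g v ∉ Submodule.span F {v} := by
  obtain ⟨W, W', h1, h2, h3, h4⟩ := hC
  have hWP : W ≤ P := by rw [← h3]; exact le_sup_left
  have hWP' : W' ≤ P := by rw [← h3]; exact le_sup_right
  have hdis : ∀ x ∈ W, x ∈ W' → x = 0 := by
    intro x hx hx'
    apply hN x (hWP hx)
    intro w hw
    rw [← h3] at hw
    obtain ⟨a, ha, b, hb, rfl⟩ := Submodule.mem_sup.1 hw
    rw [map_add, h1 x hx a ha, h2 x hx' b hb, add_zero]
  obtain ⟨w, hw, hw0⟩ : ∃ w ∈ W, w ≠ 0 := by
    by_contra hcon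
    push Not at hcon
    have hP0 : ∀ x ∈ P, x = 0 := by
      intro x hx
      apply hN x hx
      intro y hy
      rw [← h3] at hx hy
      obtain ⟨a, ha, b, hb, rfl⟩ := Submodule.mem_sup.1 hx
      obtain ⟨a', ha', b', hb', rfl⟩ := Submodule.mem_sup.1 hy
      rw [hcon a ha, hcon a' ha', zero_add, zero_add, h2 b hb b' hb']
    have : P = ⊥ := (Submodule.eq_bot_iff P).2 hP0
    rw [this, finrank_bot] at hfin
    omega
  by_contra hcon
  push Not at hcon
  have hgw : g w = w := by
    obtain ⟨c, hc⟩ := Submodule.mem_span_singleton.1 (hcon w (hWP hw))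
    have h5 := h4 w hw
    have h6 : g w - w ∈ W := by rw [← hc]; exact W.sub_mem (W.smul_mem c hw) hw
    exact sub_eq_zero.1 (hdis _ h6 h5)
  apply hne
  intro v hv
  obtain ⟨c, hc⟩ := Submodule.mem_span_singleton.1 (hcon v hv)
  obtain ⟨d, hd⟩ := Submodule.mem_span_singleton.1 (hcon (v + w) (P.add_mem hv (hWP hw)))
  rw [map_add, ← hc, hgw] at hd
  have h5 : (d - c) • v = (1 - d) • w := by
    rw [sub_smul, sub_smul, one_smul, sub_eq_sub_iff_add_eq_add, ← smul_add, hd, add_comm]
  by_cases h6 : d = c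
  · rw [h6, sub_self, zero_smul, eq_comm, smul_eq_zero] at h5
    have h7 : 1 - c = 0 := h5.resolve_right hw0
    rw [← hc, ← sub_eq_zero.1 h7, one_smul]
  · have h7 : v = ((d - c)⁻¹ * (1 - d)) • w := by
      rw [mul_smul, ← h5, smul_smul, inv_mul_cancel₀ (sub_ne_zero.2 h6), one_smul]
    rw [h7, map_smul, hgw]

theorem c1On_neg {B : LinearMap.BilinForm F V} (hB : Alt B) {g : V ≃ₗ[F] V} {P : Submodule F V}
    (hI : Inv g P) (hfin : Module.finrank F P = 2) {v : V} (hv : v ∈ P)
    (hgv : g v ∉ Submodule.span F {v}) : C1On B (ng g) P := by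
  have hv0 : v ≠ 0 := by
    rintro rfl
    exact hgv (by rw [map_zero]; exact Submodule.zero_mem _)
  have iso1 : ∀ u : V, Orth B (Submodule.span F {u}) (Submodule.span F {u}) := by
    intro u x hx y hy
    obtain ⟨a, rfl⟩ := Submodule.mem_span_singleton.1 hx
    obtain ⟨b, rfl⟩ := Submodule.mem_span_singleton.1 hy
    simp [hB u]
  refine ⟨Submodule.span F {v}, Submodule.span F {g v + v}, iso1 v, iso1 _, ?_, ?_⟩
  · apply Submodule.eq_of_le_of_finrank_le
    · apply sup_le
      · rw [Submodule.span_singleton_le_iff_mem]; exact hv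
      · rw [Submodule.span_singleton_le_iff_mem]; exact P.add_mem (hI v hv) hv
    · rw [hfin]
      have h1 : Submodule.span F {v} < Submodule.span F {v} ⊔ Submodule.span F {g v + v} := by
        apply lt_of_le_of_ne le_sup_left
        intro h0
        apply hgv
        have h2 : g v + v ∈ Submodule.span F {v} := by
          rw [h0]
          exact Submodule.mem_sup_right (Submodule.mem_span_singleton_self _)
        have h3 := Submodule.sub_mem _ h2 (Submodule.mem_span_singleton_self v)
        simpa using h3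
      have h2 := Submodule.finrank_lt_finrank_of_lt h1
      rw [finrank_span_singleton hv0] at h2
      omega
  · intro x hx
    obtain ⟨a, rfl⟩ := Submodule.mem_span_singleton.1 hx
    rw [ng_apply, map_smul]
    have : -(a • g v) - a • v = (-a) • (g v + v) := by
      rw [smul_add, neg_smul, neg_smul]; abel
    rw [this]
    exact Submodule.smul_mem _ _ (Submodule.mem_span_singleton_self _)

/-- dimension four, `q = 3` -/
theorem four_case [Finite F] (h3 : Nat.card F = 3) {B : LinearMap.BilinForm F V} (hB : Alt B)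
    {g : V ≃ₗ[F] V} (hg : Iso B g) {P Q : Submodule F V} (hPQ : Orth B P Q) (hP : Nd B P) (hQ : Nd B Q)
    (hPI : Inv g P) (hfP : Module.finrank F P = 2) (hfQ : Module.finrank F Q = 2)
    {v : V} (hv : v ∈ P) (hgv : g v ∉ Submodule.span F {v}) (hQg : ∀ w ∈ Q, g w = - w)
    (htop : P ⊔ Q = ⊤) : IsComm B g := by
  have hv0 : v ≠ 0 := by
    rintro rfl
    exact hgv (by rw [map_zero]; exact Submodule.zero_mem _)
  -- `P` is spanned by `v`, `g v`
  have hspan : Submodule.span F {v} ⊔ Submodule.span F {g v} = P := by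
    apply Submodule.eq_of_le_of_finrank_le
    · apply sup_le
      · rw [Submodule.span_singleton_le_iff_mem]; exact hv
      · rw [Submodule.span_singleton_le_iff_mem]; exact hPI v hv
    · rw [hfP]
      have h1 : Submodule.span F {v} < Submodule.span F {v} ⊔ Submodule.span F {g v} := by
        apply lt_of_le_of_ne le_sup_left
        intro h0
        apply hgv
        rw [h0]
        exact Submodule.mem_sup_right (Submodule.mem_span_singleton_self _)
      have h2 := Submodule.finrank_lt_finrank_of_lt h1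
      rw [finrank_span_singleton hv0] at h2
      omega
  have hmem : ∀ w ∈ P, ∃ a b : F, w = a • v + b • g v := by
    intro w hw
    rw [← hspan] at hw
    obtain ⟨x, hx, y, hy, rfl⟩ := Submodule.mem_sup.1 hw
    obtain ⟨a, rfl⟩ := Submodule.mem_span_singleton.1 hx
    obtain ⟨b, rfl⟩ := Submodule.mem_span_singleton.1 hy
    exact ⟨a, b, rfl⟩
  set κ := B v (g v) with hκ
  have hκ0 : κ ≠ 0 := by
    intro h0
    apply hv0
    apply hP v hv
    intro w hw
    obtain ⟨a, b, rfl⟩ := hmem w hw
    rw [map_add, map_smul, map_smul, hB v, ← hκ, h0]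
    simp
  obtain ⟨α, τ, hατ⟩ := hmem (g (g v)) (hPI _ (hPI _ hv))
  have hα : α = -1 := by
    have h1 := hg v (g v)
    rw [hατ, map_add, map_smul, map_smul, hB (g v), hB.neg (g v) v, ← hκ] at h1
    simp only [smul_eq_mul, mul_zero, add_zero] at h1
    have h2 : (α + 1) * κ = 0 := by linear_combination -h1
    exact eq_neg_of_add_eq_zero_left ((mul_eq_zero.1 h2).resolve_right hκ0)
  -- a hyperbolic pair of `Q`
  obtain ⟨e, he, f, hf, hef⟩ : ∃ e ∈ Q, ∃ f ∈ Q, B e f = 1 := by
    have hQ0 : Q ≠ ⊥ := by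
      rintro rfl
      rw [finrank_bot] at hfQ
      omega
    obtain ⟨e, he, he0⟩ := Submodule.exists_mem_ne_zero_of_ne_bot hQ0
    obtain ⟨f, hf, hne⟩ : ∃ f ∈ Q, B e f ≠ 0 := by
      by_contra hcon
      push Not at hcon
      exact he0 (hQ e he hcon)
    refine ⟨e, he, (B e f)⁻¹ • f, Q.smul_mem _ hf, ?_⟩
    rw [map_smul, smul_eq_mul, inv_mul_cancel₀ hne]
  have hfV : Module.finrank F V = 4 := by
    have h1 := Submodule.finrank_sup_add_finrank_inf_eq P Q
    have h2 : P ⊓ Q = ⊥ := by
      rw [Submodule.eq_bot_iff]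
      intro x hx
      exact hP x hx.1 (fun w hw => hB.zero (hPQ w hw x hx.2))
    rw [htop, h2, finrank_top, finrank_bot, hfP, hfQ] at h1
    omega
  let b : Fin 4 → V := ![e, f, v, κ⁻¹ • g v]
  have hPv : ∀ w ∈ P, B w e = 0 ∧ B w f = 0 ∧ B e w = 0 ∧ B f w = 0 := fun w hw =>
    ⟨hPQ w hw e he, hPQ w hw f hf, hB.zero (hPQ w hw e he), hB.zero (hPQ w hw f hf)⟩
  have hgvP := hPI v hv
  have hJ : ∀ i j, B (b i) (b j) = Jm F i j := by
    intro i j
    have h1 := hPv v hv
    have h2 := hPv (g v) hgvP
    have h4 : B f e = -1 := by rw [hB.neg, hef]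
    have h5 : B (g v) v = -κ := by rw [hB.neg]
    fin_cases i <;> fin_cases j <;>
      simp [b, Jm, h1.1, h1.2.1, h1.2.2.1, h1.2.2.2, h2.1, h2.2.1, h2.2.2.1, h2.2.2.2, hB e, hB f, hB v,
        hB (g v), hef, h4, h5, ← hκ, hκ0]
  have hli : LinearIndependent F b := by
    rw [Fintype.linearIndependent_iff]
    intro c hc i
    have key : ∀ j, ∑ i, c i * Jm F i j = 0 := by
      intro j
      have h1 : B (∑ i, c i • b i) (b j) = 0 := by rw [hc, map_zero, LinearMap.zero_apply]
      rw [map_sum, LinearMap.sum_apply] at h1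
      rw [← h1]
      refine Finset.sum_congr rfl fun i _ => ?_
      rw [map_smul, LinearMap.smul_apply, smul_eq_mul, hJ]
    have k0 := key 0
    have k1 := key 1
    have k2 := key 2
    have k3 := key 3
    simp [Fin.sum_univ_succ, Jm] at k0 k1 k2 k3
    fin_cases i
    · exact k1
    · exact k0
    · exact k3
    · exact k2
  let bb := basisOfLinearIndependentOfCardEqFinrank hli (by rw [hfV]; rfl)
  have hbb : ∀ i, bb i = b i := fun i => by
    simp [bb]
  obtain ⟨M, T, hM, hT, hMT⟩ := four_mat' h3 κ τ hκ0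
  have hκinv : κ⁻¹ = κ := by
    have : Fintype F := Fintype.ofFinite F
    have hc : Fintype.card F = 3 := by rw [← Nat.card_eq_fintype_card, h3]
    have h1 := FiniteField.pow_card_sub_one_eq_one κ hκ0
    rw [hc] at h1
    have h2 : κ * κ = 1 := by rw [← pow_two]; exact h1
    exact inv_eq_of_mul_eq_one_left h2
  refine mat_comm bb (G := Gm κ τ) (fun i j => by rw [hbb, hbb, hJ]) (fun j => ?_) hM hT hMT
  simp only [hbb]
  have hge := hQg e he
  have hgf := hQg f hf
  fin_cases j
  · simp [b, Gm, Fin.sum_univ_succ, hge]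
  · simp [b, Gm, Fin.sum_univ_succ, hgf]
  · simp only [b, Gm, Fin.sum_univ_succ]
    simp [smul_smul, mul_inv_cancel₀ hκ0]
  · have e3 : g (κ⁻¹ • g v) = -(κ • v) + τ • κ⁻¹ • g v := by
      rw [map_smul, hατ, hα, hκinv, smul_add, smul_smul, smul_smul, smul_smul, mul_comm κ τ]
      simp
    simpa [b, Gm, Fin.sum_univ_succ] using e3

variable [Finite F]

theorem sp_main {B : LinearMap.BilinForm F V} (hB : Alt B) (hN : Nond B) {n : ℕ}
    (hV : Module.finrank F V = 2 * n) (h1 : n = 1 → 4 ≤ Nat.card F) (h2 : n = 2 → 3 ≤ Nat.card F)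
    {g : V ≃ₗ[F] V} (hg : Iso B g) : IsComm B g := by
  apply CommOn.top
  obtain ⟨P, Q, R, o1, o2, o3, i1, i2, i3, n1, n2, n3, hsup, hC, hex, hR⟩ :=
    exists_dec hB hg (Module.finrank F (⊤ : Submodule F V)) ⊤ (fun v _ => trivial) (fun v _ h => hN v (fun w => h w trivial)) rfl
  have hcard : 2 ≤ Nat.card F := Finite.one_lt_card
  obtain ⟨m, hm⟩ : ∃ m, Module.finrank F P = 2 * m := by
    obtain ⟨W, W', h3, h4, h5, h6⟩ := c1_of_c1On i1 hC
    exact ⟨_, finrank_two (restrict_alt hB P) (restrict_nond n1) h3 h4 h5⟩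
  have hPcomm : m ≠ 0 → (5 ≤ Nat.card F ^ m ∨ 4 ≤ Nat.card F) → CommOn B g P := fun hm0 hq =>
    commOn_of hB n1 i1 (c1_comm (restrict_alt hB P) (restrict_nond n1) hm hm0 hq (gr_iso hg P i1)
      (c1_of_c1On i1 hC))
  have hP0 : m = 0 → CommOn B g P := by
    rintro rfl
    have : P = ⊥ := Submodule.finrank_eq_zero.1 (by rw [hm, mul_zero])
    rw [this]
    exact CommOn.bot B g
  have hQ : CommOn B g Q := by
    rcases hex with ⟨h3, _⟩ | ⟨h3, h4⟩
    · rw [h3]; exact CommOn.bot B g
    · exact commOn_exc hB hg h3 n2 h4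
  have hfin : CommOn B g P → CommOn B g ⊤ := by
    intro hP
    rw [← hsup]
    exact hP.sup hB (orth_sup' o1 o2) (hQ.sup hB o3 hR)
  rcases Nat.lt_or_ge (Nat.card F) 4 with hlt | hge
  swap
  · apply hfin
    by_cases hm0 : m = 0
    · exact hP0 hm0
    · exact hPcomm hm0 (Or.inr hge)
  -- q = 2 or q = 3
  have : Fintype F := Fintype.ofFinite F
  rcases (show Nat.card F = 2 ∨ Nat.card F = 3 by omega) with hq | hq
  · -- q = 2
    have h20 : (2 : F) = 0 := by
      have h3 := FiniteField.cast_card_eq_zero F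
      rw [← Nat.card_eq_fintype_card, hq] at h3
      exact_mod_cast h3
    rcases hex with ⟨h3, h4⟩ | ⟨h3, _⟩
    swap
    · exact absurd h20 h3
    rw [h3, h4, sup_bot_eq, sup_bot_eq] at hsup
    apply hfin
    have hmn : m = n := by
      rw [hsup, finrank_top, hV] at hm
      omega
    by_cases hm0 : m = 0
    · exact hP0 hm0
    · apply hPcomm hm0
      left
      rw [hq]
      have h5 : 3 ≤ m := by
        rcases Nat.lt_or_ge m 3 with h6 | h6
        · have h7 : m = 1 ∨ m = 2 := by omega
          rcases h7 with h7 | h7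
          · have := h1 (by omega); omega
          · have := h2 (by omega); omega
        · exact h6
      calc 5 ≤ 2 ^ 3 := by norm_num
        _ ≤ 2 ^ m := Nat.pow_le_pow_right (by norm_num) h5
  · -- q = 3
    by_cases hm0 : m = 0
    · exact hfin (hP0 hm0)
    by_cases hm1 : m = 1
    swap
    · apply hfin
      apply hPcomm hm0
      left
      rw [hq]
      calc 5 ≤ 3 ^ 2 := by norm_num
        _ ≤ 3 ^ m := Nat.pow_le_pow_right (by norm_num) (by omega)
    subst hm1
    by_cases htriv : ∀ v ∈ P, g v = v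
    · exact hfin (CommOn.of_fixed B g htriv)
    obtain ⟨v, hv, hgv⟩ := exists_nonscalar n1 i1 hm hC htriv
    have hn1 : n ≠ 1 := by
      intro h3
      have := h1 h3
      omega
    rcases hex with ⟨h3, h4⟩ | ⟨h3, h4⟩
    · exfalso
      rw [h3, h4, sup_bot_eq, sup_bot_eq] at hsup
      rw [hsup, finrank_top, hV] at hm
      omega
    have hPQn : Nd B (P ⊔ Q) := Nd.sup hB o1 n1 n2
    have hPQi : Inv g (P ⊔ Q) := Inv.sup i1 i2
    have key : CommOn B g (P ⊔ Q) := by
      obtain ⟨hQI, hE1, a, ha, ha0, _⟩ := h4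
      have hPQfin : Module.finrank F (P ⊔ Q : Submodule F V) = 2 * (2 * (a + 1)) := by
        have h5 := Submodule.finrank_sup_add_finrank_inf_eq P Q
        have h6 : P ⊓ Q = ⊥ := by
          rw [Submodule.eq_bot_iff]
          intro x hx
          exact n1 x hx.1 (fun w hw => hB.zero (o1 w hw x hx.2))
        rw [h6, finrank_bot, hm, ha] at h5
        omega
      by_cases ha1 : a = 0
      · subst ha1
        apply commOn_of hB hPQn hPQi
        -- dimension four
        have hsub : ∀ {S : Submodule F V}, S ≤ P ⊔ Q →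
            Module.finrank F (S.comap (P ⊔ Q).subtype) = Module.finrank F S := by
          intro S hS
          exact (Submodule.comapSubtypeEquivOfLe hS).finrank_eq
        refine four_case hq (B := B.restrict (P ⊔ Q)) (restrict_alt hB _) (gr_iso hg _ hPQi)
          (P := P.comap (P ⊔ Q).subtype) (Q := Q.comap (P ⊔ Q).subtype)
          (fun x hx y hy => o1 x hx y hy) ?_ ?_ (fun x hx => i1 x hx)
          (by rw [hsub le_sup_left, hm]) (by rw [hsub le_sup_right, ha]) (v := ⟨v, Submodule.mem_sup_left hv⟩) hv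
          ?_ ?_ ?_
        · intro x hx h0
          exact Subtype.ext (n1 x hx (fun w hw => h0 ⟨w, Submodule.mem_sup_left hw⟩ hw))
        · intro x hx h0
          exact Subtype.ext (n2 x hx (fun w hw => h0 ⟨w, Submodule.mem_sup_right hw⟩ hw))
        · intro h0
          apply hgv
          obtain ⟨c, hc⟩ := Submodule.mem_span_singleton.1 h0
          exact Submodule.mem_span_singleton.2 ⟨c, congrArg Subtype.val hc⟩
        · intro w hw
          have h5 := ha0 rfl ⟨w, hw⟩
          rw [ng_apply] at h5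
          have h6 := congrArg Subtype.val h5
          apply Subtype.ext
          change g w = -w
          change - g w = w at h6
          rw [← h6, neg_neg, h6]
        · rw [eq_top_iff]
          rintro ⟨x, hx⟩ _
          obtain ⟨y, hy, z, hz, rfl⟩ := Submodule.mem_sup.1 hx
          exact Submodule.mem_sup.2 ⟨⟨y, Submodule.mem_sup_left hy⟩, hy, ⟨z, Submodule.mem_sup_right hz⟩, hz, rfl⟩
      · have hC' : C1On B (ng g) P := c1On_neg hB i1 hm hv hgv
        have hCQ : C1On B (ng g) Q := by
          have hI' : Inv (ng g) Q := fun w hw => by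
            rw [ng_apply]; exact Q.neg_mem (i2 w hw)
          apply c1On_of_c1 hI'
          have : gr (ng g) Q hI' = ng (gr g Q hQI) := by
            ext w
            rfl
          rw [this]
          exact hE1
        have hCC := hC'.sup hB o1 hCQ
        have hI'' : Inv (ng g) (P ⊔ Q) := fun w hw => by
          rw [ng_apply]; exact Submodule.neg_mem _ (hPQi w hw)
        apply commOn_of hB hPQn hPQi
        refine c1_neg_comm (restrict_alt hB _) (restrict_nond hPQn) hPQfin (by omega) (Or.inl ?_)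
          (h' := gr (ng g) _ hI'') (gr_iso (ng_iso hg) _ hI'') (fun w => ?_) (c1_of_c1On hI'' hCC)
        · rw [hq]
          calc 5 ≤ 3 ^ 2 := by norm_num
            _ ≤ 3 ^ (a + 1) := Nat.pow_le_pow_right (by norm_num) (by omega)
        · apply Subtype.ext
          change g w = - (- g w)
          rw [neg_neg]
    rw [← hsup, ← sup_assoc]
    exact key.sup hB (orth_sup o2 o3) hR

end Cfsg.Agent.H144
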